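import Mathlib
import Cfsg.Agent.HeldType.Perm
import Cfsg.Agent.Leech.PairsEight
import Cfsg.Agent.MonsterType.Monomial

/-! Membership, congruence modulo doubles and linear actions on coordinate lists. -/

set_option autoImplicit false
set_option maxRecDepth 8000

namespace Cfsg.Agent.CentType
open Cfsg Cfsg.Agent

/-- membership in the lattice, on lists -/
def inLB (l : List ℤ) : Bool :=
  let m := l.getD 0 0
  let k := HeldType.maskW fun q => ((l.getD q 0 - m) / 2) % 2 == 1
  ((List.range 24).all fun q => (l.getD q 0 - m) % 2 == 0) &&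
    ((((List.range 24).map fun q => l.getD q 0).sum - 4 * m) % 8 == 0) &&
    ((HeldType.decN k ^^^ k) % 2 ^ 24 == 0)

theorem sum_ofL (l : List ℤ) :
    ∑ p, Leech.ofL l p = ((List.range 24).map fun q => l.getD q 0).sum := by
  rw [← List.sum_toFinset _ List.nodup_range, List.toFinset_range, Leech.univ_eq_range,
    Finset.sum_image (fun a ha b hb e => by
      rw [← Leech.idx_ptOf a (Finset.mem_range.1 ha), ← Leech.idx_ptOf b (Finset.mem_range.1 hb), e])]
  refine Finset.sum_congr rfl fun q hq => ?_
  rw [Leech.ofL, Leech.idx_ptOf q (Finset.mem_range.1 hq)]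

theorem inLB_sound {l : List ℤ} (h : inLB l = true) : Leech.ofL l ∈ leechLattice := by
  simp only [inLB, Bool.and_eq_true, List.all_eq_true, List.mem_range, beq_iff_eq] at h
  obtain ⟨⟨hpar, hsum⟩, hk⟩ := h
  set m := l.getD 0 0 with hm
  set k := HeldType.maskW fun q => ((l.getD q 0 - m) / 2) % 2 == 1 with hkd
  refine Leech.mem_of_parity _ m (fun i => ?_) ?_ ?_
  · have := hpar _ (Leech.idx_lt i)
    simp only [Leech.ofL]
    omega
  · rw [sum_ofL]
    omega
  · have hw : Leech.bitWord k = Leech.red2 fun i => (Leech.ofL l i - m) / 2 := by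
      funext p
      simp only [Leech.bitWord, hkd, HeldType.testBit_maskW, Leech.idx_lt p, decide_true,
        Bool.true_and, Leech.red2, Leech.ofL]
      rcases Int.emod_two_eq_zero_or_one ((l.getD (Leech.idx p) 0 - m) / 2) with e | e
      · rw [if_neg (by rw [beq_iff_eq, e]; omega)]
        exact ((ZMod.intCast_zmod_eq_zero_iff_dvd _ 2).2 (Int.dvd_of_emod_eq_zero e)).symm
      · rw [if_pos (by rw [beq_iff_eq, e])]
        rw [← ZMod.intCast_mod _ 2, show ((2 : ℕ) : ℤ) = 2 from rfl, e, Int.cast_one]
    rw [← hw, ← HeldType.bitWord_decN]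
    funext p
    have h0 := congrArg (fun n => Nat.testBit n (Leech.idx p)) hk
    simp only [Nat.testBit_mod_two_pow, Leech.idx_lt p, decide_true, Bool.true_and,
      Nat.testBit_xor, Nat.zero_testBit] at h0
    simp only [Leech.bitWord]
    revert h0
    cases (HeldType.decN k).testBit (Leech.idx p) <;> cases k.testBit (Leech.idx p) <;> simp

/-- congruence modulo doubles, on lists -/
def congB (a b : List ℤ) : Bool :=
  ((List.range 24).all fun q => (a.getD q 0 - b.getD q 0) % 2 == 0) &&
    inLB ((List.range 24).map fun q => (a.getD q 0 - b.getD q 0) / 2)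

theorem congB_sound {a b : List ℤ} {v w : leechLattice}
    (hv : Leech.toL (v : GolayPt → ℤ) = a) (hw : Leech.toL (w : GolayPt → ℤ) = b)
    (h : congB a b = true) : Leech.cls v = Leech.cls w := by
  simp only [congB, Bool.and_eq_true, List.all_eq_true, List.mem_range, beq_iff_eq] at h
  refine Leech.cls_eq.2 ⟨_, inLB_sound h.2, funext fun p => ?_⟩
  have hp := h.1 _ (Leech.idx_lt p)
  rw [← hv, ← hw, Leech.toL_getD _ _ (Leech.idx_lt p), Leech.toL_getD _ _ (Leech.idx_lt p),
    Leech.ptOf_idx] at hp
  simp only [Pi.sub_apply, Pi.smul_apply, Leech.ofL, List.getD_eq_getElem?_getD, List.getElem?_map,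
    List.getElem?_range (Leech.idx_lt p), Option.map_some, Option.getD_some]
  simp only [← List.getD_eq_getElem?_getD, ← hv, ← hw, Leech.toL_getD _ _ (Leech.idx_lt p),
    Leech.ptOf_idx]
  rw [two_nsmul]
  omega

/-- sum of two lists -/
def addL (a b : List ℤ) : List ℤ := (List.range 24).map fun q => a.getD q 0 + b.getD q 0

theorem toL_add (v w : leechLattice) :
    Leech.toL ((v + w : leechLattice) : GolayPt → ℤ) =
      addL (Leech.toL (v : GolayPt → ℤ)) (Leech.toL (w : GolayPt → ℤ)) := by
  refine List.map_congr_left fun q hq => ?_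
  rw [Leech.toL_getD _ _ (List.mem_range.1 hq), Leech.toL_getD _ _ (List.mem_range.1 hq)]
  rfl

/-- action of a permutation given by the preimage list -/
def permL (P : List ℕ) (l : List ℤ) : List ℤ := (List.range 24).map fun q => l.getD (P.getD q 0) 0

theorem toL_perm {σ : ↥M24} {P : List ℕ}
    (hP : ∀ p, Leech.idx ((σ : Equiv.Perm GolayPt)⁻¹ p) = P.getD (Leech.idx p) 0) (v : leechLattice) :
    Leech.toL ((MonsterType.permHom σ • v : leechLattice) : GolayPt → ℤ) =
      permL P (Leech.toL (v : GolayPt → ℤ)) := by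
  refine List.map_congr_left fun q hq => ?_
  show ((Leech.permCo0 _ σ.2 • v : leechLattice) : GolayPt → ℤ) (Leech.ptOf q) = _
  rw [Leech.permCo0_apply]
  have h := hP (Leech.ptOf q)
  rw [Leech.idx_ptOf q (List.mem_range.1 hq)] at h
  rw [← h, Leech.toL_getD _ _ (Leech.idx_lt _), Leech.ptOf_idx]

/-- the number of a binary vector -/
def num {n : ℕ} (k : Fin n → ZMod 2) : ℕ :=
  (List.finRange n).foldr (fun j s => (k j).val + 2 * s) 0

end Cfsg.Agent.CentType
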