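import Mathlib
import Cfsg.Agent.Leech.OrbitCert
import Cfsg.Agent.Leech.PairsEight

/-! An explicit list of integral generators of the lattice. -/

set_option autoImplicit false
set_option maxRecDepth 8000

namespace Cfsg.Agent.CentType
open Cfsg Cfsg.Agent

/-- a doubled row of the code -/
def rowL (i : Fin 12) : List ℤ :=
  (List.range 24).map fun q => if (Leech.rowMask i).testBit q then 2 else 0

/-- four times a difference of units -/
def pairL (j : ℕ) : List ℤ :=
  (List.range 24).map fun q => if q = j then 4 else if q = 0 then -4 else 0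

/-- eight times a unit -/
def topL : List ℤ := (List.range 24).map fun q => if q = 0 then 8 else 0

/-- the odd vector -/
def oddL : List ℤ := (List.range 24).map fun q => if q = 0 then -3 else 1

/-- the generators -/
def genV : List (List ℤ) :=
  (List.finRange 12).map rowL ++ ((List.range 23).map fun j => pairL (j + 1)) ++ [topL, oddL]

theorem toL_ofL : ∀ l ∈ genV, Leech.toL (Leech.ofL l) = l := by decide +kernel

theorem gen_mem : ∀ l ∈ genV, Leech.ofL l ∈ leechLattice := by
  intro l hl
  refine Leech.mem_of_parity _ (l.getD 1 0) ?_ ?_ ?_ <;> revert l <;> decide +kernel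

/-- a subgroup of the lattice containing the generators is everything -/
theorem eq_top_of_gens (W : AddSubgroup leechLattice)
    (h : ∀ v : leechLattice, Leech.toL (v : GolayPt → ℤ) ∈ genV → v ∈ W) : W = ⊤ := by
  rw [AddSubgroup.eq_top_iff']
  intro v
  set V := W.map leechLattice.subtype with hV
  have hg : ∀ l ∈ genV, Leech.ofL l ∈ V := fun l hl =>
    ⟨⟨_, gen_mem l hl⟩, h ⟨_, gen_mem l hl⟩ (by
      show Leech.toL (Leech.ofL l) ∈ genV
      rw [toL_ofL l hl]; exact hl), rfl⟩
  suffices hv : (v : GolayPt → ℤ) ∈ V by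
    obtain ⟨w, hw, he⟩ := hv
    rwa [← show w = v from Subtype.ext he]
  obtain ⟨m, y, hy, hsum, hcode⟩ := Leech.mem_lattice_iff.1 v.2
  have hodd : Leech.ofL oddL ∈ V := hg _ (by simp [genV])
  have htop : Leech.ofL topL ∈ V := hg _ (by simp [genV])
  have hrow : ∀ i, Leech.ofL (rowL i) ∈ V := fun i => hg _ (by simp [genV])
  have hpair : ∀ p : GolayPt, (Pi.single p 4 - Pi.single none 4 : GolayPt → ℤ) ∈ V := by
    intro p
    by_cases hp : p = none
    · rw [hp, sub_self]; exact V.zero_mem
    have hmem : pairL (Leech.idx p) ∈ genV := by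
      revert p; decide +kernel
    have he : ∀ p : GolayPt, p ≠ none → ∀ q, Leech.ofL (pairL (Leech.idx p)) q =
        (Pi.single p 4 - Pi.single none 4 : GolayPt → ℤ) q := by decide +kernel
    rw [← funext (he p hp)]
    exact hg _ hmem
  -- the even part
  obtain ⟨r, hr⟩ : ∃ r : GolayPt → ℤ, r = y + fun p => if p = none then 2 * m else 0 := ⟨_, rfl⟩
  have hr1 : (v : GolayPt → ℤ) - m • Leech.ofL oddL = 2 • r := by
    funext p
    have ho : ∀ p : GolayPt, Leech.ofL oddL p = if p = none then -3 else 1 := by decide +kernel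
    simp only [Pi.sub_apply, Pi.smul_apply, smul_eq_mul, hr, Pi.add_apply, ho, hy p]
    split_ifs <;> ring
  have hcode' : Leech.dec (Leech.red2 r) = Leech.red2 r := by
    refine (Leech.mem_iff _).1 ?_
    have : Leech.red2 r = Leech.red2 y := by
      funext p
      simp only [Leech.red2, hr, Pi.add_apply]
      split_ifs <;> push_cast
      · rw [show (2 : ZMod 2) = 0 from rfl, zero_mul, add_zero]
      · rw [add_zero]
    rwa [this]
  let a : Fin 12 → ℤ := fun i => r (Leech.piv i) % 2
  set s : GolayPt → ℤ := fun p => 2 * r p - ∑ i, a i * Leech.ofL (rowL i) p with hs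
  have hrowE : ∀ i p, Leech.ofL (rowL i) p = if Leech.row i p = 0 then 0 else 2 := by decide +kernel
  have hsdvd : ∀ p, (4 : ℤ) ∣ s p := by
    intro p
    have h1 : ((r p : ℤ) : ZMod 2) = ∑ i, ((a i : ℤ) : ZMod 2) * Leech.row i p := by
      have h0 := congrFun hcode' p
      rw [Leech.dec_eq, Finset.sum_apply] at h0
      rw [show ((r p : ℤ) : ZMod 2) = Leech.red2 r p from rfl, ← h0]
      refine Finset.sum_congr rfl fun i _ => ?_
      rw [Pi.smul_apply, smul_eq_mul]
      congr 1
      show ((r (Leech.piv i) : ℤ) : ZMod 2) = ((r (Leech.piv i) % 2 : ℤ) : ZMod 2)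
      exact (ZMod.intCast_mod (r (Leech.piv i)) 2).symm
    have h2 : ((r p - ∑ i, a i * (if Leech.row i p = 0 then 0 else 1) : ℤ) : ZMod 2) = 0 := by
      push_cast
      rw [h1, sub_eq_zero]
      refine Finset.sum_congr rfl fun i _ => ?_
      congr 1
      generalize Leech.row i p = t
      revert t; decide
    obtain ⟨t, ht⟩ := (ZMod.intCast_zmod_eq_zero_iff_dvd _ 2).1 h2
    refine ⟨t, ?_⟩
    have : ∑ i, a i * Leech.ofL (rowL i) p = 2 * ∑ i, a i * (if Leech.row i p = 0 then 0 else 1) := by
      rw [Finset.mul_sum]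
      refine Finset.sum_congr rfl fun i _ => ?_
      rw [hrowE]; split_ifs <;> ring
    simp only [hs, this]
    push_cast at ht
    linarith
  have hsm : (v : GolayPt → ℤ) = m • Leech.ofL oddL + (∑ i, a i • Leech.ofL (rowL i) + s) := by
    rw [sub_eq_iff_eq_add'.1 hr1]
    congr 1
    funext p
    simp only [hs, Pi.add_apply, Finset.sum_apply, Pi.smul_apply, smul_eq_mul]
    ring
  rw [hsm]
  refine V.add_mem (V.zsmul_mem hodd m) (V.add_mem (V.sum_mem fun i _ => V.zsmul_mem (hrow i) _) ?_)
  have hs4 : s = ∑ p, (s p / 4) • (Pi.single p 4 - Pi.single none 4 : GolayPt → ℤ) +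
      ((∑ p, s p) / 4) • (Pi.single none 4 : GolayPt → ℤ) := by
    funext q
    simp only [Pi.add_apply, Finset.sum_apply, Pi.smul_apply, Pi.sub_apply, Pi.single_apply, smul_eq_mul,
      mul_sub, Finset.sum_sub_distrib]
    rw [← Finset.sum_mul, show (∑ p, s p) / 4 = ∑ p, s p / 4 from Int.sum_div fun p _ => hsdvd p]
    have := hsdvd q
    have e : ∑ p, s p / 4 * (if q = p then 4 else 0) = s q := by
      simp only [mul_ite, mul_zero, Finset.sum_ite_eq, Finset.mem_univ, if_true]
      omega
    rw [e]; ring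
  have h8 : (8 : ℤ) ∣ ∑ p, s p := by
    have hvsum : ∀ i, ∑ p, Leech.ofL (rowL i) p = 16 := by decide +kernel
    have hosum : ∑ p, Leech.ofL oddL p = 20 := by decide +kernel
    have := congrArg (fun f : GolayPt → ℤ => ∑ p, f p) hsm
    simp only [Pi.add_apply, Finset.sum_apply, Pi.smul_apply, smul_eq_mul, Finset.sum_add_distrib,
      ← Finset.mul_sum, hosum] at this
    rw [Finset.sum_comm] at this
    simp only [← Finset.mul_sum, hvsum, ← Finset.sum_mul] at this
    omega
  rw [hs4]
  refine V.add_mem (V.sum_mem fun p _ => V.zsmul_mem (hpair p) _) ?_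
  obtain ⟨t, ht⟩ := h8
  have : ((∑ p, s p) / 4) • (Pi.single none 4 : GolayPt → ℤ) = t • Leech.ofL topL := by
    funext q
    have ho : ∀ q : GolayPt, Leech.ofL topL q = if q = none then 8 else 0 := by decide +kernel
    simp only [Pi.smul_apply, smul_eq_mul, ho, Pi.single_apply]
    rw [ht]
    split_ifs <;> omega
  rw [this]
  exact V.zsmul_mem htop t

end Cfsg.Agent.CentType
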