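import Mathlib
import Cfsg.Agent.CentType.Lists
import Cfsg.Agent.CentType.Span
import Cfsg.Agent.MonsterType.Intersection

/-! Fixed classes modulo doubles of a permutation of odd order, from checked lists. -/

set_option autoImplicit false
set_option maxRecDepth 8000

namespace Cfsg.Agent.CentType
open Cfsg Cfsg.Agent MonsterType

/-- scalar product on lists -/
def dotL (a b : List ℤ) : ℤ := ((List.range 24).map fun q => a.getD q 0 * b.getD q 0).sum

theorem dotInt_ofL (a b : List ℤ) : dotInt (Leech.ofL a) (Leech.ofL b) = dotL a b := by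
  rw [dotL, ← List.sum_toFinset _ List.nodup_range, List.toFinset_range, dotInt, Leech.univ_eq_range,
    Finset.sum_image (fun c hc e he h => by
      rw [← Leech.idx_ptOf c (Finset.mem_range.1 hc), ← Leech.idx_ptOf e (Finset.mem_range.1 he), h])]
  refine Finset.sum_congr rfl fun q hq => ?_
  simp only [Leech.ofL, Leech.idx_ptOf q (Finset.mem_range.1 hq)]

theorem sqNorm_ofL (a : List ℤ) : sqNorm (Leech.ofL a) = dotL a a := by
  rw [← dotInt_ofL]
  simp [sqNorm, dotInt, sq]

theorem toL_ofL_eq {l : List ℤ} (h : l.length = 24) : Leech.toL (Leech.ofL l) = l := by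
  refine List.ext_getElem (by simp [Leech.toL, h]) fun q h1 h2 => ?_
  have hq : q < 24 := h ▸ h2
  simp [Leech.toL, Leech.ofL, Leech.idx_ptOf q hq, List.getD_eq_getElem?_getD, h2]

/-- the binary vector with a given number -/
def kOf {n : ℕ} (N : ℕ) : Fin n → ZMod 2 := fun j => if N.testBit j then 1 else 0

/-- the sum over the powers of a permutation, on lists -/
def orbL (P : List ℕ) : ℕ → List ℤ → List ℤ
  | 0, _ => (List.range 24).map fun _ => 0
  | n + 1, l => addL l (permL P (orbL P n l))

/-- the zero list -/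
def zeroL : List ℤ := (List.range 24).map fun _ => 0

/-- sum of a list of lists -/
def sumL : List (List ℤ) → List ℤ
  | [] => zeroL
  | l :: t => addL l (sumL t)

theorem toL_sum : ∀ L : List leechLattice,
    Leech.toL ((L.sum : leechLattice) : GolayPt → ℤ) = sumL (L.map fun v : leechLattice => Leech.toL (v : GolayPt → ℤ))
  | [] => List.map_congr_left fun _ _ => rfl
  | v :: t => by rw [List.sum_cons, toL_add, toL_sum t]; rfl

/-- checked data of the fixed classes -/
structure ClassData (p n : ℕ) where
  σ : ↥M24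
  P : List ℕ
  hσ : σ ^ p = 1
  hodd : ∃ m, p = 2 * m + 1
  hP : ∀ q, Leech.idx ((σ : Equiv.Perm GolayPt)⁻¹ q) = P.getD (Leech.idx q) 0
  repL : (Fin n → ZMod 2) → List ℤ
  avg : List ℕ
  hrep : ∀ k, (inLB (repL k) && ((repL k).length == 24) &&
    (decide (k = 0) || (dotL (repL k) (repL k) == 32) ||
      (dotL (repL k) (repL k) == 48) || (dotL (repL k) (repL k) == 64))) = true
  hzero : dotL (repL 0) (repL 0) = 0
  hadd : ∀ k, congB (sumL ((List.finRange n).map fun i =>
    if k i = 1 then repL (Pi.single i 1) else zeroL)) (repL k) = true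
  hfix : ∀ i, congB (permL P (repL (Pi.single i 1))) (repL (Pi.single i 1)) = true
  havg : ∀ j : Fin genV.length, congB (orbL P p genV[j]) (repL (kOf (avg.getD j 0))) = true
  hpart : ∀ k, k ≠ 0 → ∃ l, (dotL (repL l) (repL l) = 32 ∨ dotL (repL l) (repL l) = 64) ∧
    ¬ (16 : ℤ) ∣ dotL (repL k) (repL l)

namespace ClassData

variable {p n : ℕ} (D : ClassData p n)

theorem hrep' (k : Fin n → ZMod 2) : inLB (D.repL k) = true ∧ (D.repL k).length = 24 ∧
    (k = 0 ∨ dotL (D.repL k) (D.repL k) = 32 ∨
      dotL (D.repL k) (D.repL k) = 48 ∨ dotL (D.repL k) (D.repL k) = 64) := by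
  have h := D.hrep k
  simp only [Bool.and_eq_true, Bool.or_eq_true, beq_iff_eq, decide_eq_true_iff] at h
  obtain ⟨⟨h1, h2⟩, h3⟩ := h
  exact ⟨h1, h2, by tauto⟩

/-- representative of a fixed class -/
def rep (k : Fin n → ZMod 2) : leechLattice := ⟨Leech.ofL (D.repL k), inLB_sound (D.hrep' k).1⟩

theorem toL_rep (k : Fin n → ZMod 2) : Leech.toL (D.rep k : GolayPt → ℤ) = D.repL k :=
  toL_ofL_eq (D.hrep' k).2.1

theorem sqNorm_rep (k : Fin n → ZMod 2) : sqNorm (D.rep k : GolayPt → ℤ) = dotL (D.repL k) (D.repL k) :=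
  sqNorm_ofL _

theorem rep_zero_eq : D.rep 0 = 0 :=
  Subtype.ext (Leech.sqNorm_eq_zero.1 ((D.sqNorm_rep 0).trans D.hzero))

theorem norm_cases {k : Fin n → ZMod 2} (hk : k ≠ 0) :
    sqNorm (D.rep k : GolayPt → ℤ) = 32 ∨ sqNorm (D.rep k : GolayPt → ℤ) = 48 ∨
      sqNorm (D.rep k : GolayPt → ℤ) = 64 := by
  rw [sqNorm_rep]
  rcases (D.hrep' k).2.2 with e | e
  · exact absurd e hk
  · exact e

theorem norm_le (k : Fin n → ZMod 2) : sqNorm (D.rep k : GolayPt → ℤ) ≤ 64 := by
  by_cases hk : k = 0
  · rw [hk, sqNorm_rep, D.hzero]; norm_num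
  · rcases D.norm_cases hk with e | e | e <;> omega

theorem norm_of_cls {v : leechLattice} {N : ℤ} (hN : N ≤ 64) (hv : v ∈ Leech.layer N)
    {k : Fin n → ZMod 2} (h : Leech.cls (D.rep k) = Leech.cls v) :
    sqNorm (D.rep k : GolayPt → ℤ) = N := by
  by_contra hne
  exact Set.disjoint_left.1 (Leech.image_disjoint (D.norm_le k) hN hne) ⟨D.rep k, rfl, rfl⟩
    ⟨v, hv, h.symm⟩

/-- the class map -/
def F (k : Fin n → ZMod 2) : leechLattice ⧸ Leech.twoSub := Leech.cls (D.rep k)

theorem F_zero : D.F 0 = 0 := by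
  show Leech.cls (D.rep 0) = 0
  rw [D.rep_zero_eq]
  rfl

theorem F_eq_sum (k : Fin n → ZMod 2) :
    D.F k = ∑ i, if k i = 1 then D.F (Pi.single i 1) else 0 := by
  set L : List leechLattice := (List.finRange n).map fun i =>
    if k i = 1 then D.rep (Pi.single i 1) else 0 with hL
  have h := congB_sound (v := L.sum) (w := D.rep k)
    (by
      rw [toL_sum, hL, List.map_map]
      refine congrArg sumL (List.map_congr_left fun i _ => ?_)
      simp only [Function.comp]
      split_ifs
      · exact D.toL_rep _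
      · exact List.map_congr_left fun _ _ => rfl)
    (D.toL_rep k) (D.hadd k)
  show Leech.cls (D.rep k) = _
  rw [← h]
  show QuotientAddGroup.mk' Leech.twoSub L.sum = _
  rw [map_list_sum, hL, List.map_map, Fin.sum_univ_def]
  refine congrArg List.sum (List.map_congr_left fun i _ => ?_)
  simp only [Function.comp]
  split_ifs
  · rfl
  · exact map_zero _

theorem two_cls (a : leechLattice ⧸ Leech.twoSub) : a + a = 0 := by
  induction a using QuotientAddGroup.induction_on with
  | H v => exact (Leech.cls_eq_iff (v := v + v) (w := 0)).2 ⟨v, by simp⟩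

theorem F_add (k l : Fin n → ZMod 2) : D.F (k + l) = D.F k + D.F l := by
  rw [D.F_eq_sum, D.F_eq_sum k, D.F_eq_sum l, ← Finset.sum_add_distrib]
  refine Finset.sum_congr rfl fun i _ => ?_
  have hz : ∀ x : ZMod 2, x = 0 ∨ x = 1 := by decide
  rcases hz (k i) with a | a <;> rcases hz (l i) with b | b <;>
    simp [Pi.add_apply, a, b, two_cls, show (1 : ZMod 2) + 1 = 0 from rfl]

theorem self_add (k : Fin n → ZMod 2) : k + k = 0 := by
  funext j
  simp only [Pi.add_apply, Pi.zero_apply]
  generalize k j = x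
  revert x; decide

theorem F_injective : Function.Injective D.F := by
  intro k l h
  by_contra hne
  have hkl : k + l ≠ 0 := fun e => hne (by
    calc k = k + (l + l) := by rw [self_add, add_zero]
      _ = k + l + l := (add_assoc _ _ _).symm
      _ = l := by rw [e, zero_add])
  have h0 : Leech.cls (D.rep (k + l)) = Leech.cls (0 : leechLattice) := by
    show D.F (k + l) = _
    rw [D.F_add, h, ← D.F_add, self_add, D.F_zero]
    rfl
  have := D.norm_of_cls (N := 0) (by norm_num) (v := 0) (by simp [Leech.layer, sqNorm]) h0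
  rcases D.norm_cases hkl with e | e | e <;> omega

theorem smul_F (g : ↥Co0) {v : leechLattice} {k : Fin n → ZMod 2} (h : Leech.cls v = D.F k) :
    Leech.cls (g • v) = Leech.cls (g • D.rep k) := MonsterType.cls_smul g h

theorem cls_add (v w : leechLattice) : Leech.cls (v + w) = Leech.cls v + Leech.cls w := rfl

/-- a group element that fixes the basis classes fixes all -/
theorem fix_of_basis (g : ↥Co0)
    (h : ∀ i, Leech.cls (g • D.rep (Pi.single i 1)) = D.F (Pi.single i 1)) (k : Fin n → ZMod 2) :
    Leech.cls (g • D.rep k) = D.F k := by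
  classical
  have hl : k = ∑ i ∈ Finset.univ.filter (fun i => k i = 1), Pi.single i 1 := by
    funext j
    rw [Finset.sum_apply]
    simp only [Pi.single_apply, Finset.sum_ite_eq, Finset.mem_filter, Finset.mem_univ, true_and]
    generalize k j = x
    revert x; decide
  rw [hl]
  generalize Finset.univ.filter (fun i => k i = 1) = s
  induction s using Finset.induction_on with
  | empty =>
    rw [Finset.sum_empty, D.rep_zero_eq, D.F_zero, show g • (0 : leechLattice) = 0 from
      (AddMonoidHom.mk' (fun v : leechLattice => g • v) (Leech.smul_add' g)).map_zero]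
    rfl
  | insert a s ha ih =>
    have e : Leech.cls (D.rep (∑ i ∈ insert a s, Pi.single i 1)) =
        Leech.cls (D.rep (Pi.single a 1) + D.rep (∑ i ∈ s, Pi.single i 1)) := by
      rw [cls_add, Finset.sum_insert ha]; exact D.F_add _ _
    rw [MonsterType.cls_smul g e, Leech.smul_add', cls_add, h, ih, ← D.F_add, Finset.sum_insert ha]

theorem rep_fix (k : Fin n → ZMod 2) : Leech.cls (MonsterType.permHom D.σ • D.rep k) = Leech.cls (D.rep k) :=
  D.fix_of_basis _ (fun i => congB_sound (by rw [toL_perm D.hP, toL_rep]) (D.toL_rep _) (D.hfix i)) k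

theorem rep_surj (v : leechLattice) (hv : Leech.cls (MonsterType.permHom D.σ • v) = Leech.cls v) :
    ∃ k, Leech.cls (D.rep k) = Leech.cls v := by
  set s := MonsterType.permHom D.σ
  let T : ℕ → leechLattice → leechLattice := fun m x =>
    Nat.rec 0 (fun _ r => x + s • r) m
  have hT : ∀ m x y, T m (x + y) = T m x + T m y := by
    intro m
    induction m with
    | zero => intro x y; simp [T]
    | succ m ih =>
      intro x y
      show x + y + s • T m (x + y) = (x + s • T m x) + (y + s • T m y)
      rw [ih, Leech.smul_add']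
      abel
  let W : AddSubgroup leechLattice :=
    { carrier := {x | ∃ k, D.F k = Leech.cls (T p x)}
      zero_mem' := ⟨0, by
        rw [D.F_zero, show T p 0 = 0 by
          have := hT p 0 0
          rwa [add_zero, left_eq_add] at this]
        rfl⟩
      add_mem' := by
        rintro x y ⟨k, hk⟩ ⟨l, hl⟩
        exact ⟨k + l, by rw [D.F_add, hk, hl, hT, cls_add]⟩
      neg_mem' := by
        rintro x ⟨k, hk⟩
        refine ⟨k, ?_⟩
        have h1 : Leech.cls (T p x) + Leech.cls (T p (-x)) = 0 := by
          rw [← cls_add, ← hT, add_neg_cancel]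
          have := hT p 0 0
          rw [add_zero, left_eq_add] at this
          rw [this]; rfl
        rw [hk]
        calc Leech.cls (T p x) = Leech.cls (T p x) + (Leech.cls (T p x) + Leech.cls (T p (-x))) := by
              rw [h1, add_zero]
          _ = _ := by rw [← add_assoc, two_cls, zero_add] }
  have hTL : ∀ m x, Leech.toL (Subtype.val (T m x)) = orbL D.P m (Leech.toL (x : GolayPt → ℤ)) := by
    intro m x
    induction m with
    | zero => exact List.map_congr_left fun q _ => rfl
    | succ m ih =>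
      show Leech.toL ((x + s • T m x : leechLattice) : GolayPt → ℤ) = _
      rw [toL_add, toL_perm D.hP, ih]
      rfl
  have hW : W = ⊤ := eq_top_of_gens W fun x hx => by
    obtain ⟨j, hj, he⟩ := List.getElem_of_mem hx
    exact ⟨_, (congB_sound (v := T p x) (w := D.rep (kOf (D.avg.getD j 0)))
      (by rw [hTL, ← he]; rfl) (D.toL_rep _) (D.havg ⟨j, hj⟩)).symm⟩
  obtain ⟨k, hk⟩ : v ∈ W := hW ▸ AddSubgroup.mem_top v
  refine ⟨k, hk.trans ?_⟩
  have hc : ∀ m, Leech.cls (T m v) = m • Leech.cls v := by
    intro m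
    induction m with
    | zero => rw [zero_nsmul]; rfl
    | succ m ih =>
      show Leech.cls (v + s • T m v) = _
      rw [cls_add, succ_nsmul']
      congr 1
      clear hk
      have hm : ∀ i, Leech.cls (T i v) = Leech.cls ((i : ℤ) • v) → Leech.cls (s • T i v) = Leech.cls ((i : ℤ) • v) := by
        intro i hi
        rw [MonsterType.cls_smul s hi]
        have := map_zsmul (AddMonoidHom.mk' (fun w : leechLattice => s • w) (Leech.smul_add' s)) (i : ℤ) v
        simp only [AddMonoidHom.mk'_apply] at this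
        rw [this]
        show QuotientAddGroup.mk' Leech.twoSub ((i : ℤ) • (s • v)) = QuotientAddGroup.mk' Leech.twoSub ((i : ℤ) • v)
        rw [map_zsmul, map_zsmul]
        exact congrArg _ hv
      have hz : Leech.cls ((m : ℤ) • v) = m • Leech.cls v := by
        show QuotientAddGroup.mk' Leech.twoSub _ = _
        rw [map_zsmul, natCast_zsmul]; rfl
      rw [hm m (ih.trans hz.symm), hz]
  rw [hc]
  obtain ⟨m, hm⟩ := D.hodd
  rw [hm, add_nsmul, one_nsmul, mul_nsmul, two_nsmul, two_cls, nsmul_zero, zero_add]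

theorem partner (k : Fin n → ZMod 2) (hk : k ≠ 0) :
    ∃ l, (sqNorm (D.rep l : GolayPt → ℤ) = 32 ∨ sqNorm (D.rep l : GolayPt → ℤ) = 64) ∧
      ¬ (16 : ℤ) ∣ dotInt (D.rep k : GolayPt → ℤ) (D.rep l : GolayPt → ℤ) := by
  obtain ⟨l, hl, hd⟩ := D.hpart k hk
  exact ⟨l, by rw [sqNorm_rep]; exact hl, by
    show ¬ (16 : ℤ) ∣ dotInt (Leech.ofL _) (Leech.ofL _)
    rw [dotInt_ofL]; exact hd⟩

end ClassData

end Cfsg.Agent.CentType
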