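import Mathlib

/-! Elements of prime order over a normal subgroup of coprime order: conjugacy and centrality
in a Sylow subgroup pass between the group and the image. -/

set_option autoImplicit false

namespace Cfsg.Agent.CentType

/-- the element lies in the centre of some Sylow subgroup -/
def SylCentral (p : ℕ) {H : Type*} [Group H] (x : H) : Prop :=
  ∃ P : Sylow p H, x ∈ (P : Subgroup H) ∧ ∀ y ∈ (P : Subgroup H), x * y = y * x

theorem sylCentral_map {p : ℕ} {H K : Type*} [Group H] [Group K] (φ : H ≃* K) {x : H}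
    (h : SylCentral p x) : SylCentral p (φ x) := by
  obtain ⟨P, hx, hc⟩ := h
  refine ⟨P.comapOfInjective φ.symm.toMonoidHom φ.symm.injective (fun y _ => φ.symm.surjective y), ?_, ?_⟩
  · show φ.symm (φ x) ∈ (P : Subgroup H)
    rwa [φ.symm_apply_apply]
  · intro y hy
    have := congrArg φ (hc (φ.symm y) hy)
    simpa using this

theorem sylCentral_equiv {p : ℕ} {H K : Type*} [Group H] [Group K] (φ : H ≃* K) {x : H} :
    SylCentral p (φ x) ↔ SylCentral p x :=
  ⟨fun h => by simpa using sylCentral_map φ.symm h, sylCentral_map φ⟩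

theorem sylCentral_conj {p : ℕ} {H : Type*} [Group H] (u x : H) :
    SylCentral p (u * x * u⁻¹) ↔ SylCentral p x :=
  sylCentral_equiv (MulAut.conj u)

theorem sylCentral_pow {p : ℕ} {H : Type*} [Group H] {x : H} (h : SylCentral p x) (j : ℕ) :
    SylCentral p (x ^ j) := by
  obtain ⟨P, hx, hc⟩ := h
  exact ⟨P, pow_mem hx j, fun y hy => (Commute.pow_left (hc y hy) j).eq⟩

/-- the inverse power modulo a prime -/
theorem exists_pow_inv {p : ℕ} (hp : p.Prime) {H : Type*} [Group H] {x : H} (hx : orderOf x = p)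
    {j : ℕ} (hj : ¬ p ∣ j) : ∃ k : ℕ, ¬ p ∣ k ∧ (x ^ j) ^ k = x := by
  obtain ⟨k, -, hk⟩ := Nat.exists_mul_mod_eq_one_of_coprime ((hp.coprime_iff_not_dvd.2 hj).symm) hp.one_lt
  refine ⟨k, fun hd => ?_, ?_⟩
  · rw [Nat.mod_eq_zero_of_dvd (Dvd.dvd.mul_left hd j)] at hk
    exact zero_ne_one hk
  · rw [← pow_mul, ← pow_mod_orderOf, hx, hk, pow_one]

theorem sylCentral_pow_iff {p : ℕ} (hp : p.Prime) {H : Type*} [Group H] {x : H} (hx : orderOf x = p)
    {j : ℕ} (hj : ¬ p ∣ j) : SylCentral p (x ^ j) ↔ SylCentral p x := by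
  refine ⟨fun h => ?_, fun h => sylCentral_pow h j⟩
  obtain ⟨k, -, hk⟩ := exists_pow_inv hp hx hj
  have := sylCentral_pow h k
  rwa [hk] at this

section
variable {p : ℕ} [hp : Fact p.Prime] (hodd : p ≠ 2) {A B : Type*} [Group A] [Group B]
include hodd

theorem eq_one_of_two {K : Subgroup A} (hK : IsPGroup 2 K) {a : A} (ha : a ∈ K) (h : a ^ p = 1) :
    a = 1 := by
  obtain ⟨k, hk⟩ := hK ⟨a, ha⟩
  have hk' : a ^ 2 ^ k = 1 := congrArg Subtype.val hk
  have hcop : Nat.Coprime p (2 ^ k) :=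
    ((Nat.coprime_primes hp.out Nat.prime_two).2 hodd).pow_right k
  have hd := Nat.dvd_gcd (orderOf_dvd_of_pow_eq_one h) (orderOf_dvd_of_pow_eq_one hk')
  rw [hcop.gcd_eq_one, Nat.dvd_one] at hd
  exact orderOf_eq_one_iff.1 hd

theorem orderOf_image {f : A →* B} (hker : IsPGroup 2 f.ker) {a : A} (ha : orderOf a = p) :
    orderOf (f a) = p := by
  have h7 : a ^ p = 1 := by rw [← ha]; exact pow_orderOf_eq_one a
  refine orderOf_eq_prime (by rw [← map_pow, h7, map_one]) fun h => ?_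
  rw [eq_one_of_two hodd hker (MonoidHom.mem_ker.2 h) h7, orderOf_one] at ha
  exact hp.out.ne_one ha.symm

/-- conjugacy is detected in the image -/
theorem conj_of_image [Finite A] (f : A →* B) (hker : IsPGroup 2 f.ker) {a a' : A}
    (ha : orderOf a = p) (ha' : orderOf a' = p) {j : ℕ} (h : f a = f a' ^ j) :
    ∃ u : A, f u = 1 ∧ u * a * u⁻¹ = a' ^ j := by
  have hfa' := orderOf_image hodd hker ha'
  set D := (Subgroup.zpowers (f a')).comap f with hD
  have haD : a ∈ D := by rw [hD, Subgroup.mem_comap, h]; exact Subgroup.npow_mem_zpowers _ _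
  have ha'D : a' ∈ D := Subgroup.mem_zpowers (f a')
  obtain ⟨k, hk⟩ := IsPGroup.iff_card.1 hker
  have hcard : Nat.card ↥D = 2 ^ k * p := by
    have hle : f.ker ≤ D := fun q hq => by
      rw [hD, Subgroup.mem_comap, MonoidHom.mem_ker.1 hq]; exact Subgroup.one_mem _
    have h1 := (f.ker.subgroupOf D).card_mul_index
    rw [Nat.card_congr (Subgroup.subgroupOfEquivOfLe hle).toEquiv, hk] at h1
    have h2 : (f.ker.subgroupOf D).index = Nat.card ↥(D.map f) := by
      rw [← Subgroup.relIndex_ker]; rfl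
    have hmap : D.map f = Subgroup.zpowers (f a') :=
      le_antisymm (Subgroup.map_comap_le _ _) (Subgroup.zpowers_le.2 ⟨a', ha'D, rfl⟩)
    rw [h2, hmap, Nat.card_zpowers, hfa'] at h1
    exact h1.symm
  have hf : (Nat.card ↥D).factorization p = 1 := by
    rw [hcard, Nat.factorization_mul (by positivity) hp.out.pos.ne']
    simp only [Finsupp.add_apply, Nat.Prime.factorization_pow Nat.prime_two, hp.out.factorization_self]
    rw [Finsupp.single_eq_of_ne hodd, zero_add]
  let S : Sylow p D := Sylow.ofCard (Subgroup.zpowers (⟨a, haD⟩ : D)) (by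
    rw [Nat.card_zpowers, Subgroup.orderOf_mk, ha, hf, pow_one])
  let T : Sylow p D := Sylow.ofCard (Subgroup.zpowers (⟨a', ha'D⟩ : D)) (by
    rw [Nat.card_zpowers, Subgroup.orderOf_mk, ha', hf, pow_one])
  obtain ⟨u, hu⟩ := MulAction.exists_smul_eq D S T
  have hmem : u * ⟨a, haD⟩ * u⁻¹ ∈ (T : Subgroup D) := by
    rw [← hu, Sylow.coe_subgroup_smul]
    exact ⟨⟨a, haD⟩, Subgroup.mem_zpowers _, by simp⟩
  change u * ⟨a, haD⟩ * u⁻¹ ∈ Subgroup.zpowers (⟨a', ha'D⟩ : D) at hmem
  rw [← mem_powers_iff_mem_zpowers, Submonoid.mem_powers_iff] at hmem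
  obtain ⟨i, hi⟩ := hmem
  have hi' : (u : A) * a * (u : A)⁻¹ = a' ^ i := by
    have := congrArg Subtype.val hi.symm
    simpa using this
  obtain ⟨m, hm⟩ : ∃ m : ℤ, f a' ^ m = f u := Subgroup.mem_zpowers_iff.1 u.2
  have hij : a' ^ i = a' ^ j := by
    have h1 := congrArg f hi'
    simp only [map_mul, map_inv, map_pow, h, ← hm] at h1
    rw [((Commute.refl (f a')).zpow_left m |>.pow_right j).eq, mul_inv_cancel_right] at h1
    rw [pow_eq_pow_iff_modEq, ha']
    rw [pow_eq_pow_iff_modEq, hfa'] at h1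
    exact h1.symm
  refine ⟨(a' ^ m)⁻¹ * (u : A), by rw [map_mul, map_inv, map_zpow, hm, inv_mul_cancel], ?_⟩
  have hc : a' ^ j * a' ^ m = a' ^ m * a' ^ j := (((Commute.refl a').zpow_right m).pow_left j).eq
  calc (a' ^ m)⁻¹ * (u : A) * a * ((a' ^ m)⁻¹ * (u : A))⁻¹
      = (a' ^ m)⁻¹ * ((u : A) * a * (u : A)⁻¹) * a' ^ m := by group
    _ = a' ^ j := by rw [hi', hij, mul_assoc, hc, ← mul_assoc, inv_mul_cancel, one_mul]

/-- centrality in a Sylow subgroup is detected in the image -/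
theorem sylCentral_image [Finite A] (f : A →* B) (hf : Function.Surjective f)
    (hker : IsPGroup 2 f.ker) {a : A} (ha : orderOf a = p) :
    SylCentral p a ↔ SylCentral p (f a) := by
  constructor
  · rintro ⟨P, hP, hc⟩
    refine ⟨P.mapSurjective hf, ⟨a, hP, rfl⟩, ?_⟩
    rintro _ ⟨y, hy, rfl⟩
    rw [← map_mul, ← map_mul, hc y hy]
  · rintro ⟨P', hP', hc'⟩
    obtain ⟨P, rfl⟩ := Sylow.mapSurjective_surjective hf p P'
    obtain ⟨a', ha'P, he⟩ := hP'
    have hinj : ∀ y ∈ (P : Subgroup A), f y = 1 → y = 1 := by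
      intro y hy h1
      obtain ⟨k, hk⟩ := hker ⟨y, MonoidHom.mem_ker.2 h1⟩
      obtain ⟨m, hm⟩ := P.2 ⟨y, hy⟩
      have hcop : Nat.Coprime (p ^ m) (2 ^ k) :=
        (((Nat.coprime_primes hp.out Nat.prime_two).2 hodd).pow m k)
      have hd := Nat.dvd_gcd (orderOf_dvd_of_pow_eq_one (show y ^ p ^ m = 1 from congrArg Subtype.val hm))
        (orderOf_dvd_of_pow_eq_one (show y ^ 2 ^ k = 1 from congrArg Subtype.val hk))
      rw [hcop.gcd_eq_one, Nat.dvd_one] at hd
      exact orderOf_eq_one_iff.1 hd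
    have ho : orderOf a' = p := by
      refine orderOf_eq_prime (hinj _ (pow_mem ha'P p) ?_) fun h1 => ?_
      · rw [map_pow, he, ← map_pow, ← ha, pow_orderOf_eq_one, map_one]
      · rw [h1, map_one] at he
        have := orderOf_image hodd hker ha
        rw [← he, orderOf_one] at this
        exact hp.out.ne_one this.symm
    have hz : SylCentral p a' := by
      refine ⟨P, ha'P, fun y hy => ?_⟩
      have h1 := hc' (f y) ⟨y, hy, rfl⟩
      rw [← he, ← map_mul, ← map_mul] at h1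
      refine inv_mul_eq_one.1 (hinj _ ?_ ?_)
      · exact mul_mem (inv_mem (mul_mem ha'P hy)) (mul_mem hy ha'P)
      · rw [map_mul, map_inv, h1, inv_mul_cancel]
    obtain ⟨u, -, hu⟩ := conj_of_image hodd f hker ha ho (j := 1) (by rw [pow_one]; exact he.symm)
    rw [pow_one] at hu
    rw [← sylCentral_conj u, hu]
    exact hz

end

end Cfsg.Agent.CentType
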