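import Mathlib
import Cfsg.Agent.CentType.Coprime
import Cfsg.Agent.MonsterType.BabyType
import Cfsg.Agent.HeldType.Setup

/-! The permutation part of the frame stabiliser, and what is needed of an element of odd
prime order of the code group to identify the centraliser of its lift. -/

set_option autoImplicit false

namespace Cfsg.Agent.CentType
open Cfsg Cfsg.Agent MonsterType

/-- stabiliser of the standard frame -/
abbrev frameStab : Subgroup ↥Co0 := stabCls (Leech.oct none)

/-- its image in the simple quotient -/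
abbrev frameBar : Subgroup Spor.Co1 := frameStab.map rho

/-- lift of a permutation -/
abbrev liftS (σ : ↥M24) : ↥Co0 := permHom σ

/-- the permutation of a monomial element -/
noncomputable def permOf (g : ↥frameStab) : ↥M24 := (frame_decomp g.2).choose_spec.choose

theorem permOf_eq {g : ↥frameStab} {c : Multiplicative ↥golayCode} {π : ↥M24}
    (h : (g : ↥Co0) = signHom c * permHom π) : permOf g = π :=
  ((mono_inj ((frame_decomp g.2).choose_spec.choose_spec.symm.trans h)).2)

/-- the permutation part, as a homomorphism -/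
noncomputable def permPart : ↥frameStab →* ↥M24 :=
  MonoidHom.mk' permOf fun a b => by
    obtain ⟨c, σ, ha⟩ := frame_decomp a.2
    obtain ⟨c', σ', hb⟩ := frame_decomp b.2
    obtain ⟨c'', hc''⟩ := perm_sign_conj σ c'
    rw [permOf_eq ha, permOf_eq hb]
    refine permOf_eq (c := c * c'') ?_
    rw [Subgroup.coe_mul, ha, hb, map_mul, map_mul, ← hc'']
    group

/-- restriction of the projection to the frame stabiliser -/
def rhoFrame : ↥frameStab →* ↥frameBar := rho.subgroupMap frameStab

theorem rhoFrame_surjective : Function.Surjective rhoFrame := MonoidHom.subgroupMap_surjective _ _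

/-- the permutation part on the quotient -/
noncomputable def piF : ↥frameBar →* ↥M24 :=
  rhoFrame.liftOfRightInverse (Function.surjInv rhoFrame_surjective)
    (Function.rightInverse_surjInv rhoFrame_surjective)
    ⟨permPart, fun g hg => by
      have h : rho (g : ↥Co0) = 1 := congrArg Subtype.val (MonoidHom.mem_ker.1 hg)
      refine MonoidHom.mem_ker.2 ?_
      rcases rho_eq_one.1 h with e | e
      · exact permOf_eq (c := 1) (by rw [e, map_one, map_one, one_mul])
      · exact permOf_eq (c := allOnes) (by rw [e, map_one, mul_one]; rfl)⟩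

theorem piF_rho (g : ↥frameStab) : piF (rhoFrame g) = permPart g :=
  rhoFrame.liftOfRightInverse_comp_apply _ _ _ g

theorem rho_perm_mem (σ : ↥M24) : rho (liftS σ) ∈ frameBar := ⟨_, perm_mem_frame σ, rfl⟩

theorem piF_perm (σ : ↥M24) : piF ⟨rho (liftS σ), rho_perm_mem σ⟩ = σ :=
  (piF_rho ⟨liftS σ, perm_mem_frame σ⟩).trans (permOf_eq (c := 1) (by rw [map_one, one_mul]))

theorem piF_surjective : Function.Surjective piF := fun σ => ⟨_, piF_perm σ⟩

theorem piF_ker : IsPGroup 2 piF.ker := by
  rintro ⟨y, hy⟩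
  obtain ⟨g, rfl⟩ := rhoFrame_surjective y
  rw [MonoidHom.mem_ker, piF_rho] at hy
  obtain ⟨c, σ, hg⟩ := frame_decomp g.2
  obtain rfl : σ = 1 := (permOf_eq hg).symm.trans hy
  refine ⟨1, Subtype.ext (Subtype.ext ?_)⟩
  show rho (g : ↥Co0) ^ 2 ^ 1 = 1
  rw [hg, map_one permHom, mul_one]
  exact signImage_elementary _ ⟨c, rfl⟩

/-- what is needed of an element of prime order of the code group -/
structure Setting (p w : ℕ) (L : Type) [Group L] where
  σ : ↥M24
  order : orderOf σ = p
  central : Prop
  sel : ∀ y : ↥M24, orderOf y = p → (SylCentral p y ↔ central) → ∃ n j, n * y * n⁻¹ = σ ^ j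
  inducing : ∀ j, ¬ p ∣ j → ∃ n, n * σ * n⁻¹ = σ ^ j
  rep : (Fin (2 * w) → ZMod 2) → leechLattice
  rep_zero : Leech.cls (rep 0) = Leech.cls 0
  rep_fix : ∀ k, Leech.cls (liftS σ • rep k) = Leech.cls (rep k)
  rep_inj : Function.Injective fun k => Leech.cls (rep k)
  rep_surj : ∀ v, Leech.cls (liftS σ • v) = Leech.cls v → ∃ k, Leech.cls (rep k) = Leech.cls v
  partner : ∀ k, k ≠ 0 → ∃ l, (sqNorm (rep l : GolayPt → ℤ) = 32 ∨ sqNorm (rep l : GolayPt → ℤ) = 64) ∧
    ¬ (16 : ℤ) ∣ dotInt (rep k : GolayPt → ℤ) (rep l : GolayPt → ℤ)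
  toQuot : ↥(Subgroup.centralizer ({rho (liftS σ)} : Set Spor.Co1)) →* L
  toQuot_surjective : Function.Surjective toQuot
  toQuot_ker : ∀ y, toQuot y = 1 ↔ (y : Spor.Co1) ∈ Subgroup.zpowers (rho (liftS σ))
  faithful : ∀ (g : ↥Co0) (hg : rho g ∈ Subgroup.centralizer ({rho (liftS σ)} : Set Spor.Co1)),
    (∀ k, Leech.cls (g • rep k) = Leech.cls (rep k)) → toQuot ⟨rho g, hg⟩ = 1

theorem oct_fixed_perm (σ : ↥M24) :
    Leech.cls (liftS σ • Leech.oct none) = Leech.cls (Leech.oct none) :=
  mem_stabCls.1 (perm_mem_frame σ)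

end Cfsg.Agent.CentType
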