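import Mathlib
import Cfsg.Agent.CentType.Classes
import Cfsg.Agent.CentType.Setting

/-! The centraliser of a permutation in the automorphism group of the lattice, identified by its
action on a family of sets of fixed classes and an upper bound on its order. -/

set_option autoImplicit false
set_option maxRecDepth 8000

namespace Cfsg.Agent.CentType
open Cfsg Cfsg.Agent MonsterType

/-- coordinates of a multiple of a unit vector -/
def unitL (a : ℕ) : List ℤ := (List.range 24).map fun b => if b = a then 8 else 0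

theorem toL_oct : ∀ q : GolayPt, Leech.toL (Leech.oct q : GolayPt → ℤ) = unitL (Leech.idx q) := by
  decide +kernel

/-- checked data identifying a centraliser -/
structure CentData (p n : ℕ) (ι : Type) (W : Subgroup (Equiv.Perm ι)) extends ClassData p n where
  hp : p.Prime
  hne : σ ≠ 1
  gen : Fin 2 → Leech.LGen
  hcomm : ∀ i, ∀ a < 24, (gen i).f (permL P (unitL a)) = permL P ((gen i).f (unitL a))
  img : Fin 2 → List ℕ
  himg : ∀ i j, congB ((gen i).f (repL (Pi.single j 1))) (repL (kOf ((img i).getD (j : ℕ) 0))) = true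
  obj : ι → ℕ
  hobj : ∀ a b, (∀ k : Fin n → ZMod 2, (obj a).testBit (num k) = (obj b).testBit (num k)) → a = b
  tau : Fin 2 → Equiv.Perm ι
  htau : ∀ i a (k : Fin n → ZMod 2),
    (obj (tau i a)).testBit (num (∑ j, k j • (kOf ((img i).getD (j : ℕ) 0) : Fin n → ZMod 2))) =
      (obj a).testBit (num k)
  hgen : W ≤ Subgroup.closure (Set.range tau)
  hbound : (Finset.univ.filter fun k : Fin n → ZMod 2 => dotL (repL k) (repL k) = 64).card *
    (Nat.card {c : ↥golayCode // ∀ q, c.1 ((σ : Equiv.Perm GolayPt)⁻¹ q) = c.1 q} *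
      Nat.card ↥(Subgroup.centralizer ({σ} : Set ↥M24))) ≤ 2 * p * Nat.card ↥W

namespace CentData

variable {p n : ℕ} {ι : Type} [Finite ι] {W : Subgroup (Equiv.Perm ι)} (E : CentData p n ι W)

/-- the lattice automorphism -/
abbrev sX : ↥Co0 := permHom E.σ

/-- its centraliser -/
abbrev C : Subgroup ↥Co0 := Subgroup.centralizer ({E.sX} : Set ↥Co0)

omit [Finite ι] in
theorem mem_C {g : ↥Co0} : g ∈ E.C ↔ g * E.sX = E.sX * g := Subgroup.mem_centralizer_singleton_iff

omit [Finite ι] in
theorem exists_img {g : ↥Co0} (hg : g ∈ E.C) (k : Fin n → ZMod 2) :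
    ∃ k', Leech.cls (g • E.rep k) = E.F k' := by
  obtain ⟨k', hk'⟩ := E.rep_surj (g • E.rep k) (by
    rw [← mul_smul, ← E.mem_C.1 hg, mul_smul]
    exact MonsterType.cls_smul g (E.rep_fix k))
  exact ⟨k', hk'.symm⟩

/-- the element moves the sets as the permutation does -/
def Moves (g : ↥Co0) (τ : Equiv.Perm ι) : Prop :=
  ∀ a k k', Leech.cls (g • E.rep k) = E.F k' → (E.obj (τ a)).testBit (num k') = (E.obj a).testBit (num k)

omit [Finite ι] in
theorem moves_fix {g : ↥Co0} (h : ∀ k, Leech.cls (g • E.rep k) = E.F k) : E.Moves g 1 := by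
  intro a k k' hk
  rw [E.F_injective ((h k).symm.trans hk)]
  rfl

omit [Finite ι] in
theorem moves_unique {g : ↥Co0} (hg : g ∈ E.C) {τ τ' : Equiv.Perm ι}
    (h : E.Moves g τ) (h' : E.Moves g τ') : τ = τ' := by
  refine Equiv.ext fun a => E.hobj _ _ fun k' => ?_
  obtain ⟨k, hk⟩ := E.exists_img (inv_mem hg) k'
  have hk2 : Leech.cls (g • E.rep k) = E.F k' := by
    have := MonsterType.cls_smul g hk
    rw [smul_inv_smul] at this
    exact this.symm
  rw [h a k k' hk2, h' a k k' hk2]

omit [Finite ι] in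
theorem moves_mul {g h : ↥Co0} (hh : h ∈ E.C) {τ υ : Equiv.Perm ι} (h1 : E.Moves g τ)
    (h2 : E.Moves h υ) : E.Moves (g * h) (τ * υ) := by
  intro a k k' hk
  obtain ⟨m, hm⟩ := E.exists_img hh k
  rw [mul_smul, MonsterType.cls_smul g hm] at hk
  exact (h1 (υ a) m k' hk).trans (h2 a k m hm)

omit [Finite ι] in
theorem moves_inv {g : ↥Co0} {τ : Equiv.Perm ι} (h1 : E.Moves g τ) : E.Moves g⁻¹ τ⁻¹ := by
  intro a k k' hk
  have hk2 : Leech.cls (g • E.rep k') = E.F k := by
    have := MonsterType.cls_smul g hk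
    rw [smul_inv_smul] at this
    exact this.symm
  have := h1 (τ⁻¹ a) k' k hk2
  rw [show τ (τ⁻¹ a) = a from τ.apply_symm_apply a] at this
  exact this.symm

/-- elements permuting the family -/
def permuting : Subgroup ↥Co0 where
  carrier := {g | g ∈ E.C ∧ ∃ τ, E.Moves g τ}
  one_mem' := ⟨one_mem _, 1, E.moves_fix fun k => by rw [one_smul]; rfl⟩
  mul_mem' := by
    rintro g h ⟨hg, τ, hτ⟩ ⟨hh, υ, hυ⟩
    exact ⟨mul_mem hg hh, _, E.moves_mul hh hτ hυ⟩
  inv_mem' := by
    rintro g ⟨hg, τ, hτ⟩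
    exact ⟨inv_mem hg, _, E.moves_inv hτ⟩

/-- the permutation of the family -/
noncomputable def action : ↥E.permuting →* Equiv.Perm ι :=
  MonoidHom.mk' (fun g => g.2.2.choose) fun a b =>
    E.moves_unique (a * b).2.1 (a * b).2.2.choose_spec
      (E.moves_mul b.2.1 a.2.2.choose_spec b.2.2.choose_spec)

omit [Finite ι] in
theorem action_eq (g : ↥E.permuting) {τ : Equiv.Perm ι} (h : E.Moves g τ) : E.action g = τ :=
  E.moves_unique g.2.1 g.2.2.choose_spec h

omit [Finite ι] in
theorem gen_comm (i : Fin 2) : (E.gen i).g ∈ E.C := by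
  refine E.mem_C.2 (Leech.ext_of_oct fun q => Subtype.ext (Leech.toL_injective ?_))
  rw [mul_smul, mul_smul, (E.gen i).spec, toL_perm E.hP, toL_perm E.hP, (E.gen i).spec, toL_oct]
  exact E.hcomm i _ (Leech.idx_lt q)

omit [Finite ι] in
theorem gen_moves (i : Fin 2) : E.Moves (E.gen i).g (E.tau i) := by
  classical
  set A : (Fin n → ZMod 2) → (Fin n → ZMod 2) := fun k =>
    ∑ j, k j • (kOf ((E.img i).getD (j : ℕ) 0) : Fin n → ZMod 2) with hA
  have hadd : ∀ k l, A (k + l) = A k + A l := fun k l => by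
    simp only [hA, Pi.add_apply, add_smul, Finset.sum_add_distrib]
  have hlin : ∀ k, Leech.cls ((E.gen i).g • E.rep k) = E.F (A k) := by
    intro k
    have hl : k = ∑ j ∈ Finset.univ.filter (fun j => k j = 1), Pi.single j 1 := by
      funext j
      rw [Finset.sum_apply]
      simp only [Pi.single_apply, Finset.sum_ite_eq, Finset.mem_filter, Finset.mem_univ, true_and]
      generalize k j = x
      revert x; decide
    rw [hl]
    generalize Finset.univ.filter (fun j => k j = 1) = s
    induction s using Finset.induction_on with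
    | empty =>
      have h0 : A 0 = 0 := by simp [hA]
      rw [Finset.sum_empty, h0, E.rep_zero_eq, E.F_zero, show (E.gen i).g • (0 : leechLattice) = 0 from
        (AddMonoidHom.mk' (fun v : leechLattice => (E.gen i).g • v) (Leech.smul_add' _)).map_zero]
      rfl
    | insert a s ha ih =>
      have e : Leech.cls (E.rep (∑ j ∈ insert a s, Pi.single j 1)) =
          Leech.cls (E.rep (Pi.single a 1) + E.rep (∑ j ∈ s, Pi.single j 1)) := by
        rw [ClassData.cls_add, Finset.sum_insert ha]; exact E.F_add _ _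
      have hb : Leech.cls ((E.gen i).g • E.rep (Pi.single a 1)) = E.F (A (Pi.single a 1)) := by
        have h1 : A (Pi.single a 1) = kOf ((E.img i).getD (a : ℕ) 0) := by
          simp only [hA]
          rw [Finset.sum_eq_single a (fun b _ hb => by simp [Pi.single_eq_of_ne hb]) (by simp)]
          simp
        rw [h1]
        exact congB_sound (by rw [(E.gen i).spec, ClassData.toL_rep]) (E.toL_rep _) (E.himg i a)
      rw [MonsterType.cls_smul _ e, Leech.smul_add', ClassData.cls_add, hb, ih, ← E.F_add,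
        Finset.sum_insert ha, hadd]
  intro a k k' hk
  rw [← E.F_injective ((hlin k).symm.trans hk)]
  exact E.htau i a k

omit [Finite ι] in
theorem range_ge : W ≤ E.action.range := by
  refine E.hgen.trans ((Subgroup.closure_le _).2 ?_)
  rintro _ ⟨i, rfl⟩
  exact ⟨⟨_, E.gen_comm i, _, E.gen_moves i⟩, E.action_eq _ (E.gen_moves i)⟩

/-- the obvious kernel elements -/
def kerElem (x : Bool × Fin p) : ↥Co0 := (if x.1 then Leech.zneg else 1) * E.sX ^ (x.2 : ℕ)

omit [Finite ι] in
theorem orderOf_sX : orderOf E.sX = p := by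
  have := Fact.mk E.hp
  refine orderOf_eq_prime (by rw [← map_pow, E.hσ, map_one]) fun h => E.hne ?_
  exact (rho_mono_eq_one (c := 1) (σ := E.σ) (by rw [map_one, one_mul]; exact (congrArg rho h).trans (map_one _))).2

omit [Finite ι] in
include E in
theorem odd_p : p ≠ 2 := by
  obtain ⟨m, hm⟩ := E.hodd
  omega

omit [Finite ι] in
theorem zneg_smul_cls (v : leechLattice) : Leech.cls (Leech.zneg • v) = Leech.cls v := by
  rw [Leech.zneg_smul]
  exact Leech.cls_eq_iff.2 ⟨-v, by abel⟩

omit [Finite ι] in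
theorem kerElem_C (x : Bool × Fin p) : E.kerElem x ∈ E.C := by
  refine E.mem_C.2 ?_
  have h1 : Commute (if x.1 then Leech.zneg else 1) E.sX := by
    cases x.1
    · exact Commute.one_left _
    · exact (Leech.zneg_comm E.sX)
  exact (h1.mul_left ((Commute.refl E.sX).pow_left _)).eq

omit [Finite ι] in
theorem kerElem_moves (x : Bool × Fin p) : E.Moves (E.kerElem x) 1 := by
  refine E.moves_fix fun k => ?_
  have hs : ∀ m : ℕ, Leech.cls (E.sX ^ m • E.rep k) = E.F k := by
    intro m
    induction m with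
    | zero => rw [pow_zero, one_smul]; rfl
    | succ m ih => rw [pow_succ', mul_smul, MonsterType.cls_smul _ ih]; exact E.rep_fix k
  rw [kerElem, mul_smul]
  cases x.1
  · rw [if_neg (by simp), one_smul]; exact hs _
  · rw [if_pos rfl, zneg_smul_cls]; exact hs _

omit [Finite ι] in
theorem kerElem_injective : Function.Injective E.kerElem := by
  have := Fact.mk E.hp
  rintro ⟨a, i⟩ ⟨b, j⟩ h
  have hz : ∀ a : Bool, ((if a then Leech.zneg else 1 : ↥Co0)) ^ 2 = 1 := by
    intro a; cases a
    · simp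
    · exact Leech.zneg_sq
  have key : E.sX ^ ((i : ℕ) * 2) = E.sX ^ ((j : ℕ) * 2) := by
    have h2 := congrArg (· ^ 2) h
    have hc : ∀ a : Bool, Commute ((if a then Leech.zneg else 1 : ↥Co0)) E.sX := by
      intro a; cases a
      · exact Commute.one_left _
      · exact Leech.zneg_comm E.sX
    simp only [kerElem, ((hc a).pow_right _).mul_pow, ((hc b).pow_right _).mul_pow, hz, one_mul,
      ← pow_mul] at h2
    exact h2
  rw [pow_eq_pow_iff_modEq, E.orderOf_sX] at key
  have hij : i = j := by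
    refine Fin.ext (Nat.ModEq.eq_of_lt_of_lt ?_ i.2 j.2)
    exact Nat.ModEq.cancel_right_of_coprime ((Nat.coprime_primes E.hp Nat.prime_two).2 E.odd_p) key
  subst hij
  simp only [kerElem, mul_left_inj] at h
  cases a <;> cases b
  · rfl
  · exact absurd h.symm Leech.zneg_ne_one
  · exact absurd h Leech.zneg_ne_one
  · rfl

omit [Finite ι] in
theorem card_C_le : Nat.card ↥E.C ≤ 2 * p * Nat.card ↥W := by
  classical
  have := Leech.finite_co0
  refine le_trans ?_ E.hbound
  obtain ⟨k0, hk0⟩ := E.rep_surj (Leech.oct none) (oct_fixed_perm E.σ)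
  have himg : ∀ g : ↥E.C, ∃ k, E.F k = Leech.cls ((g : ↥Co0) • Leech.oct none) ∧
      dotL (E.repL k) (E.repL k) = 64 := by
    intro g
    obtain ⟨k, hk⟩ := E.exists_img g.2 k0
    have hk' : E.F k = Leech.cls ((g : ↥Co0) • Leech.oct none) := by
      rw [← hk]; exact MonsterType.cls_smul _ hk0
    refine ⟨k, hk', ?_⟩
    rw [← ClassData.sqNorm_rep]
    refine E.norm_of_cls le_rfl ?_ hk'
    show sqNorm _ = _
    rw [Leech.sqNorm_smul]
    exact (Leech.stdCross_mem (Leech.oct_mem_stdCross none)).2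
  choose kk hk hk64 using himg
  let rp : (Fin n → ZMod 2) → ↥E.C := fun k =>
    if h : ∃ g, kk g = k then h.choose else 1
  have hrp : ∀ g, kk (rp (kk g)) = kk g := fun g => by
    simp only [rp]
    rw [dif_pos ⟨g, rfl⟩]
    exact Exists.choose_spec (p := fun g' => kk g' = kk g) ⟨g, rfl⟩
  have hdec : ∀ g : ↥E.C, ∃ c : {c : ↥golayCode // ∀ q, c.1 ((E.σ : Equiv.Perm GolayPt)⁻¹ q) = c.1 q},
      ∃ π : ↥(Subgroup.centralizer ({E.σ} : Set ↥M24)),
      (((rp (kk g))⁻¹ * g : ↥E.C) : ↥Co0) = signHom (Multiplicative.ofAdd c.1) * permHom π.1 := by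
    intro g
    set h := ((rp (kk g))⁻¹ * g : ↥E.C) with hh
    have hm : (h : ↥Co0) ∈ frameStab := by
      rw [mem_stabCls]
      have e1 := (hk g).symm.trans ((congrArg E.F (hrp g)).symm.trans (hk _))
      have e2 := MonsterType.cls_smul ((rp (kk g) : ↥Co0))⁻¹ e1
      rw [inv_smul_smul, ← mul_smul] at e2
      exact e2
    obtain ⟨c, π, hcp⟩ := frame_decomp hm
    obtain ⟨c', hc'⟩ := perm_sign_conj E.σ c
    have hcom := E.mem_C.1 h.2
    rw [hcp] at hcom
    have e : signHom c * permHom (π * E.σ) = signHom c' * permHom (E.σ * π) := by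
      rw [map_mul, map_mul, ← mul_assoc, hcom, ← mul_assoc, ← hc']
      group
    obtain ⟨e1, e2⟩ := mono_inj e
    refine ⟨⟨c.toAdd, fun q => ?_⟩, ⟨π, Subgroup.mem_centralizer_singleton_iff.2 e2⟩, hcp⟩
    subst e1
    have h1 := congrArg (fun x : ↥Co0 => ((x • Leech.oct ((E.σ : Equiv.Perm GolayPt)⁻¹ q) : leechLattice) :
      GolayPt → ℤ) q) ((mul_inv_eq_iff_eq_mul).1 hc')
    simp only [mul_smul] at h1
    change ((Leech.permCo0 _ E.σ.2 • (Leech.signCo0 _ c.toAdd.2 • Leech.oct _) : leechLattice) :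
      GolayPt → ℤ) q = ((Leech.signCo0 _ c.toAdd.2 • (Leech.permCo0 _ E.σ.2 • Leech.oct _) : leechLattice) :
      GolayPt → ℤ) q at h1
    simp only [Leech.permCo0_apply, Leech.signCo0_apply, Leech.negOn, Leech.oct, Pi.single_eq_same] at h1
    generalize c.toAdd.1 ((E.σ : Equiv.Perm GolayPt)⁻¹ q) = u at h1 ⊢
    generalize c.toAdd.1 q = v at h1 ⊢
    have hz : ∀ x : ZMod 2, x = 0 ∨ x = 1 := by decide
    rcases hz u with rfl | rfl <;> rcases hz v with rfl | rfl <;> simp_all
  choose cc pp hcp using hdec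
  let f : ↥E.C → {k : Fin n → ZMod 2 // dotL (E.repL k) (E.repL k) = 64} ×
      ({c : ↥golayCode // ∀ q, c.1 ((E.σ : Equiv.Perm GolayPt)⁻¹ q) = c.1 q} ×
        ↥(Subgroup.centralizer ({E.σ} : Set ↥M24))) :=
    fun g => (⟨kk g, hk64 g⟩, cc g, pp g)
  have hf : Function.Injective f := by
    intro g g' h
    simp only [f, Prod.mk.injEq, Subtype.mk.injEq] at h
    obtain ⟨h1, h2, h3⟩ := h
    have : ((rp (kk g))⁻¹ * g : ↥E.C) = (rp (kk g'))⁻¹ * g' :=
      Subtype.ext (by rw [hcp g, hcp g', h2, h3])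
    rw [h1] at this
    exact mul_left_cancel this
  have hle := Nat.card_le_card_of_injective f hf
  rwa [Nat.card_prod, Nat.card_prod, Nat.card_eq_fintype_card (α := {k : Fin n → ZMod 2 // _}),
    Fintype.card_subtype] at hle

theorem identify : E.permuting = E.C ∧ E.action.range = W ∧
    ∀ g : ↥E.permuting, E.action g = 1 → ∃ x, (g : ↥Co0) = E.kerElem x := by
  classical
  have := Leech.finite_co0
  have := Fact.mk E.hp
  have hpc : E.permuting ≤ E.C := fun g hg => hg.1
  let i : Bool × Fin p → ↥E.action.ker := fun x =>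
    ⟨⟨E.kerElem x, E.kerElem_C x, 1, E.kerElem_moves x⟩, E.action_eq _ (E.kerElem_moves x)⟩
  have hi : Function.Injective i := fun a b h =>
    E.kerElem_injective (congrArg (fun g : ↥E.action.ker => ((g : ↥E.permuting) : ↥Co0)) h)
  have hker : 2 * p ≤ Nat.card ↥E.action.ker := by
    refine le_trans (le_of_eq ?_) (Nat.card_le_card_of_injective i hi)
    simp
  have hrg : Nat.card ↥W ≤ Nat.card ↥E.action.range :=
    Subgroup.card_le_of_le E.range_ge
  have hmul := E.action.ker.card_mul_index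
  rw [Subgroup.index_ker] at hmul
  have hC := E.card_C_le
  have hP : Nat.card ↥E.permuting ≤ Nat.card ↥E.C := Subgroup.card_le_of_le hpc
  have hlow : 2 * p * Nat.card ↥W ≤ Nat.card ↥E.action.ker * Nat.card ↥E.action.range :=
    Nat.mul_le_mul hker hrg
  have hWpos : 0 < Nat.card ↥W := Nat.card_pos
  have hkpos : 0 < Nat.card ↥E.action.ker := Nat.card_pos
  have heq1 : Nat.card ↥E.permuting = Nat.card ↥E.C := by omega
  have hk2 : Nat.card ↥E.action.ker = 2 * p := by
    refine le_antisymm ?_ hker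
    refine Nat.le_of_mul_le_mul_right ?_ hWpos
    calc Nat.card ↥E.action.ker * Nat.card ↥W ≤ Nat.card ↥E.action.ker * Nat.card ↥E.action.range :=
          Nat.mul_le_mul_left _ hrg
      _ ≤ 2 * p * Nat.card ↥W := by omega
  refine ⟨Subgroup.eq_of_le_of_card_ge hpc heq1.ge, (Subgroup.eq_of_le_of_card_ge E.range_ge ?_).symm, ?_⟩
  · refine Nat.le_of_mul_le_mul_left ?_ hkpos
    calc Nat.card ↥E.action.ker * Nat.card ↥E.action.range ≤ 2 * p * Nat.card ↥W := by omega
      _ ≤ _ := Nat.mul_le_mul_right _ hker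
  · intro g hg
    have hbij : Function.Bijective i := (Nat.bijective_iff_injective_and_card i).2 ⟨hi, by rw [hk2]; simp⟩
    obtain ⟨x, hx⟩ := hbij.2 ⟨g, hg⟩
    exact ⟨x, (congrArg (fun g : ↥E.action.ker => ((g : ↥E.permuting) : ↥Co0)) hx).symm⟩

end CentData

end Cfsg.Agent.CentType
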