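import Mathlib
import Cfsg.Agent.CentType.Act

/-! From checked centraliser data to the setting used for the local subgroup. -/

set_option autoImplicit false

namespace Cfsg.Agent.CentType
open Cfsg Cfsg.Agent MonsterType

namespace CentData

variable {p n : ℕ} {ι : Type} [Finite ι] {W : Subgroup (Equiv.Perm ι)} (E : CentData p n ι W)

omit [Finite ι] in
include E in
/-- elements centralising the image commute -/
theorem lift_comm {g : ↥Co0} (hg : rho g * rho E.sX = rho E.sX * rho g) : g ∈ E.C := by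
  have h1 : rho (g * E.sX * g⁻¹ * E.sX⁻¹) = 1 := by
    rw [map_mul, map_mul, map_mul, map_inv, map_inv, hg]
    group
  rcases rho_eq_one.1 h1 with e | e
  · rw [mul_inv_eq_one, mul_inv_eq_iff_eq_mul] at e
    exact E.mem_C.2 e
  · exfalso
    rw [mul_inv_eq_iff_eq_mul] at e
    have hp1 : (g * E.sX * g⁻¹) ^ p = 1 := by
      rw [conj_pow, ← map_pow, E.hσ, map_one, mul_one, mul_inv_cancel]
    rw [e, (show Commute Leech.zneg E.sX from (Leech.zneg_comm E.sX).symm.symm).mul_pow, ← map_pow,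
      E.hσ, map_one, mul_one] at hp1
    obtain ⟨m, hm⟩ := E.hodd
    rw [hm, pow_succ, pow_mul, Leech.zneg_sq, one_pow, one_mul] at hp1
    exact Leech.zneg_ne_one hp1

/-- the centraliser in the simple quotient -/
abbrev Cbar : Subgroup Spor.Co1 := Subgroup.centralizer ({rho E.sX} : Set Spor.Co1)

/-- restriction of the projection -/
def rhoC : ↥E.C →* ↥E.Cbar :=
  (rho.comp E.C.subtype).codRestrict E.Cbar fun g => Subgroup.mem_centralizer_singleton_iff.2
    (show rho g * rho E.sX = rho E.sX * rho g by rw [← map_mul, ← map_mul, E.mem_C.1 g.2])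

omit [Finite ι] in
theorem rhoC_surjective : Function.Surjective E.rhoC := fun y => by
  obtain ⟨g, hg⟩ := QuotientGroup.mk'_surjective _ (y : Spor.Co1)
  have hy := Subgroup.mem_centralizer_singleton_iff.1 y.2
  rw [← hg] at hy
  exact ⟨⟨g, E.lift_comm hy⟩, Subtype.ext hg⟩

/-- the action as a map onto the target -/
noncomputable def psiC : ↥E.C →* ↥W :=
  ((E.action.comp (Subgroup.inclusion E.identify.1.ge)).codRestrict W fun g => by
    have h : ∀ y, E.action y ∈ W := fun y => E.identify.2.1.le ⟨y, rfl⟩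
    exact h _)

theorem psiC_surjective : Function.Surjective E.psiC := fun w => by
  obtain ⟨g, hg⟩ := E.identify.2.1.ge w.2
  exact ⟨⟨g, g.2.1⟩, Subtype.ext hg⟩

theorem psiC_eq_one {g : ↥E.C} : E.psiC g = 1 ↔ ∃ x, (g : ↥Co0) = E.kerElem x := by
  constructor
  · intro h
    exact E.identify.2.2 ⟨g, E.identify.1.ge g.2⟩ (congrArg Subtype.val h)
  · rintro ⟨x, hx⟩
    refine Subtype.ext (E.action_eq _ ?_)
    show E.Moves (g : ↥Co0) 1
    rw [hx]
    exact E.kerElem_moves x

/-- the map on the centraliser in the simple quotient -/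
noncomputable def psiBar : ↥E.Cbar →* ↥W :=
  E.rhoC.liftOfRightInverse (Function.surjInv E.rhoC_surjective)
    (Function.rightInverse_surjInv E.rhoC_surjective)
    ⟨E.psiC, fun g hg => MonoidHom.mem_ker.2 (E.psiC_eq_one.2 (by
      have h : rho (g : ↥Co0) = 1 := congrArg Subtype.val (MonoidHom.mem_ker.1 hg)
      rcases rho_eq_one.1 h with e | e
      · exact ⟨(false, ⟨0, E.hp.pos⟩), by simp [kerElem, e]⟩
      · exact ⟨(true, ⟨0, E.hp.pos⟩), by simp [kerElem, e]⟩))⟩

theorem psiBar_rho (g : ↥E.C) : E.psiBar (E.rhoC g) = E.psiC g :=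
  E.rhoC.liftOfRightInverse_comp_apply _ _ _ g

theorem psiBar_eq_one {y : ↥E.Cbar} :
    E.psiBar y = 1 ↔ (y : Spor.Co1) ∈ Subgroup.zpowers (rho E.sX) := by
  obtain ⟨g, rfl⟩ := E.rhoC_surjective y
  rw [E.psiBar_rho, E.psiC_eq_one]
  constructor
  · rintro ⟨⟨a, i⟩, hx⟩
    show rho (g : ↥Co0) ∈ _
    rw [hx, kerElem, map_mul, map_pow]
    refine Subgroup.mul_mem _ ?_ (Subgroup.npow_mem_zpowers _ _)
    have : rho (if a then Leech.zneg else 1) = 1 := by
      cases a
      · simp
      · exact rho_eq_one.2 (Or.inr rfl)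
    rw [this]
    exact Subgroup.one_mem _
  · intro h
    have := Leech.finite_co0
    rw [← mem_powers_iff_mem_zpowers, Submonoid.mem_powers_iff] at h
    obtain ⟨m, hm⟩ := h
    change rho E.sX ^ m = rho (g : ↥Co0) at hm
    rw [← map_pow] at hm
    have h1 : rho ((g : ↥Co0) * (E.sX ^ m)⁻¹) = 1 := by rw [map_mul, map_inv, hm, mul_inv_cancel]
    have hmp : E.sX ^ m = E.sX ^ (m % p) := by rw [← pow_mod_orderOf, E.orderOf_sX]
    rcases rho_eq_one.1 h1 with e | e
    · exact ⟨(false, ⟨m % p, Nat.mod_lt _ E.hp.pos⟩), by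
        rw [mul_inv_eq_one.1 e, hmp]; simp [kerElem]⟩
    · exact ⟨(true, ⟨m % p, Nat.mod_lt _ E.hp.pos⟩), by
        rw [mul_inv_eq_iff_eq_mul.1 e, hmp]; simp [kerElem]⟩

/-- the setting -/
noncomputable def setting {w : ℕ} (E : CentData p (2 * w) ι W) (central : Prop)
    (sel : ∀ y : ↥M24, orderOf y = p → (SylCentral p y ↔ central) → ∃ n j, n * y * n⁻¹ = E.σ ^ j)
    (inducing : ∀ j, ¬ p ∣ j → ∃ n, n * E.σ * n⁻¹ = E.σ ^ j) : Setting p w ↥W where
  σ := E.σ
  order := by
    have := Fact.mk E.hp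
    exact orderOf_eq_prime E.hσ E.hne
  central := central
  sel := sel
  inducing := inducing
  rep := E.rep
  rep_zero := by rw [E.rep_zero_eq]
  rep_fix := E.rep_fix
  rep_inj := E.F_injective
  rep_surj := E.rep_surj
  partner := E.partner
  toQuot := E.psiBar
  toQuot_surjective := fun x => by
    obtain ⟨g, hg⟩ := E.psiC_surjective x
    exact ⟨E.rhoC g, (E.psiBar_rho g).trans hg⟩
  toQuot_ker _ := E.psiBar_eq_one
  faithful := fun g hg h => by
    have hgC : g ∈ E.C := E.lift_comm (Subgroup.mem_centralizer_singleton_iff.1 hg)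
    show E.psiBar (E.rhoC ⟨g, hgC⟩) = 1
    rw [E.psiBar_rho]
    exact Subtype.ext (E.action_eq _ (E.moves_fix h))

end CentData

end Cfsg.Agent.CentType
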