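import Mathlib
import Cfsg.Agent.Compute.M24Base

/-! A bound on centralisers in the code group from the pointwise stabiliser of one cycle. -/

set_option autoImplicit false

namespace Cfsg.Agent.CentType
open Cfsg Cfsg.Agent Cfsg.Agent.Compute

/-- two codes commute -/
noncomputable def commCodes (a b : ℕ) : Bool :=
  allBelow 24 (fun i => Nat.beq (rep24.act a (rep24.act b i)) (rep24.act b (rep24.act a i)))

theorem commCodes_iff {a b : ℕ} (ha : rep24.Ok a) (hb : rep24.Ok b) :
    commCodes a b = true ↔ Commute (rep24.den a) (rep24.den b) := by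
  simp only [commCodes, allBelow_eq_true, Nat.beq_eq]
  have hab : ∀ {x y : ℕ}, rep24.Ok x → rep24.Ok y → ∀ p,
      ptIdx ((rep24.den x * rep24.den y) p) = rep24.act x (rep24.act y (ptIdx p)) := by
    intro x y hx hy p
    rw [Equiv.Perm.mul_apply, ptIdx_den hx, ptIdx_den hy]
  constructor
  · intro h
    refine Equiv.ext fun p => ptIdx_injective ?_
    rw [hab ha hb, hab hb ha]
    exact h _ (ptIdx_lt p)
  · intro h i hi
    have h1 := hab ha hb (rep24.pt i)
    rw [h.eq, hab hb ha, ptIdx_rep24 hi] at h1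
    exact h1.symm

theorem m24_bChain : M24 = rep24.chainGroup m24bChain := by
  refine (Subgroup.eq_of_le_of_card_ge ?_ ?_).symm
  · rw [Rep.chainGroup, Rep.span, Subgroup.closure_le]
    rintro _ ⟨g, hg, rfl⟩
    exact (mem_M24_of_check (List.all_eq_true.mp strongGens_check g
      (List.mem_append_left _ (List.mem_append_right _ hg)))).2
  · rw [Compute.card_m24, Rep.card_chainGroup _ m24b_check]
    decide +kernel

/-- centraliser bound: images of the first point times the stabiliser of its cycle -/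
theorem card_centralizer_le {σ : ↥M24} {code : ℕ} (hok : rep24.Ok code)
    (hden : rep24.den code = (σ : Equiv.Perm GolayPt)) (K : List Level)
    (hK : rep24.checkChain K = true)
    (hstab : ∀ x ∈ M24, x (rep24.pt 0) = rep24.pt 0 →
      (∀ q, x q = q → x ((σ : Equiv.Perm GolayPt) q) = (σ : Equiv.Perm GolayPt) q) → x ∈ rep24.chainGroup K)
    (hmov : (σ : Equiv.Perm GolayPt) (rep24.pt 0) ≠ rep24.pt 0)
    {A B : ℕ} (hA : (Finset.univ.filter fun q : GolayPt => (σ : Equiv.Perm GolayPt) q ≠ q).card ≤ A)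
    (hB : ((rep24.chainElems K).filter fun c => commCodes c code).length ≤ B) :
    Nat.card ↥(Subgroup.centralizer ({σ} : Set ↥M24)) ≤ A * B := by
  classical
  set C := Subgroup.centralizer ({σ} : Set ↥M24)
  let f : ↥C → GolayPt := fun c => ((c : ↥M24) : Equiv.Perm GolayPt) (rep24.pt 0)
  let rp : GolayPt → ↥C := fun q => if h : ∃ c, f c = q then h.choose else 1
  have hrp : ∀ c, f (rp (f c)) = f c := fun c => by
    simp only [rp]
    rw [dif_pos ⟨c, rfl⟩]
    exact Exists.choose_spec (p := fun c' => f c' = f c) ⟨c, rfl⟩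
  set L := (rep24.chainElems K).filter fun c => commCodes c code with hL
  have hcomm : ∀ c : ↥C, ∀ q, ((c : ↥M24) : Equiv.Perm GolayPt) ((σ : Equiv.Perm GolayPt) q) =
      (σ : Equiv.Perm GolayPt) (((c : ↥M24) : Equiv.Perm GolayPt) q) := fun c q =>
    congrArg (fun g : ↥M24 => (g : Equiv.Perm GolayPt) q) (Subgroup.mem_centralizer_singleton_iff.1 c.2)
  have hmem : ∀ c : ↥C, ∃ n ∈ L, rep24.den n = (((rp (f c))⁻¹ * c : ↥C) : ↥M24).1 := by
    intro c
    set g := (rp (f c))⁻¹ * c with hg
    set x : Equiv.Perm GolayPt := ((g : ↥M24) : Equiv.Perm GolayPt) with hx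
    have h0 : x (rep24.pt 0) = rep24.pt 0 := by
      have e := hrp c
      show (((rp (f c) : ↥M24) : Equiv.Perm GolayPt))⁻¹ (((c : ↥M24) : Equiv.Perm GolayPt) (rep24.pt 0)) = _
      rw [Equiv.Perm.inv_eq_iff_eq]
      exact e.symm
    have m := hstab x (g : ↥M24).2 h0 fun q hq => by rw [hx, hcomm g, hq]
    obtain ⟨n, hn, hnok, hnden⟩ := rep24.exists_elem _ hK m
    refine ⟨n, ?_, hnden⟩
    rw [hL, List.mem_filter]
    refine ⟨hn, (commCodes_iff hnok hok).2 ?_⟩
    rw [hnden, hden]
    exact Equiv.ext fun q => hcomm g q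
  choose nn hn1 hn2 using hmem
  have hf : ∀ c, (σ : Equiv.Perm GolayPt) (f c) ≠ f c := fun c h => by
    rw [← hcomm c] at h
    exact hmov (((c : ↥M24) : Equiv.Perm GolayPt).injective h)
  let F : ↥C → {q : GolayPt // q ∈ Finset.univ.filter fun q => (σ : Equiv.Perm GolayPt) q ≠ q} ×
      {n // n ∈ L.toFinset} :=
    fun c => (⟨f c, Finset.mem_filter.2 ⟨Finset.mem_univ _, hf c⟩⟩, ⟨nn c, List.mem_toFinset.2 (hn1 c)⟩)
  have hF : Function.Injective F := by
    intro a b h
    simp only [F, Prod.mk.injEq, Subtype.mk.injEq] at h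
    have := (hn2 a).symm.trans ((congrArg rep24.den h.2).trans (hn2 b))
    have h' : (rp (f a))⁻¹ * a = (rp (f b))⁻¹ * b := Subtype.ext (Subtype.ext this)
    rw [h.1] at h'
    exact mul_left_cancel h'
  refine (Nat.card_le_card_of_injective F hF).trans ?_
  rw [Nat.card_prod, Nat.card_eq_finsetCard, Nat.card_eq_finsetCard]
  exact Nat.mul_le_mul hA ((List.toFinset_card_le L).trans hB)

end Cfsg.Agent.CentType
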