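import Mathlib
import Cfsg.Agent.CentType.Setting

/-! The joint centraliser of two commuting conjugates in Monster type and its elements of
odd prime order. -/

set_option autoImplicit false

namespace Cfsg.Agent.CentType
open Cfsg Cfsg.Agent MonsterType

variable {G : Type*} [Group G] [Finite G] {z : G}
  {Q : Subgroup (Subgroup.centralizer ({z} : Set G))} [Q.Normal]
  {e : (Subgroup.centralizer ({z} : Set G)) ⧸ Q ≃* Spor.Co1}
  {ψ : leechLattice → Q ⧸ Subgroup.center Q}

/-- the centraliser of an element of the extraspecial group inside the involution centraliser -/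
abbrev jointC (x : Q) : Subgroup (Subgroup.centralizer ({z} : Set G)) :=
  Subgroup.centralizer ({(x : Subgroup.centralizer ({z} : Set G))} : Set (Subgroup.centralizer ({z} : Set G)))

omit [Finite G] in
theorem two_power {p : ℕ} [hp : Fact p.Prime] (hodd : p ≠ 2) (d : Data Q e ψ)
    {a : Subgroup.centralizer ({z} : Set G)} (ha : a ∈ Q) (h : a ^ p = 1) : a = 1 :=
  eq_one_of_two hodd (K := Q) (IsPGroup.of_card d.card) ha h

omit [Finite G] in
theorem proj_ker (d : Data Q e ψ) : IsPGroup 2 (proj e).ker := by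
  rw [show (proj e).ker = Q by ext t; rw [MonoidHom.mem_ker, proj_eq_one]]
  exact IsPGroup.of_card d.card

/-- everything about a conjugate on the standard frame -/
structure StdPoint (d : Data Q e ψ) (x : Q) : Prop where
  std : ψ (Leech.oct none) = QuotientGroup.mk x

namespace StdPoint

variable {d : Data Q e ψ} {x : Q}

omit [Finite G] in
theorem typ (h : StdPoint d x) : Typ ψ 64 x :=
  ⟨_, (Leech.stdCross_mem (Leech.oct_mem_stdCross none)).2, h.std⟩

theorem notMem_center (h : StdPoint d x) : x ∉ Subgroup.center Q :=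
  typ_notMem_center d (Or.inr (Or.inr rfl)) h.typ

theorem proj_mem (h : StdPoint d x) (a : jointC x) :
    proj e (a : Subgroup.centralizer ({z} : Set G)) ∈ frameBar := by
  rw [frameBar, ← proj_centralizer d h.std h.notMem_center]
  exact ⟨_, a.2, rfl⟩

/-- onto the image of the frame stabiliser -/
def toFrame (h : StdPoint d x) : jointC x →* ↥frameBar :=
  ((proj e).comp (jointC x).subtype).codRestrict frameBar h.proj_mem

theorem toFrame_surjective (h : StdPoint d x) : Function.Surjective h.toFrame := by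
  rintro ⟨y, hy⟩
  rw [frameBar, ← proj_centralizer d h.std h.notMem_center] at hy
  obtain ⟨a, ha, rfl⟩ := hy
  exact ⟨⟨a, ha⟩, rfl⟩

theorem toFrame_ker (h : StdPoint d x) : IsPGroup 2 h.toFrame.ker := by
  rintro ⟨a, ha⟩
  obtain ⟨k, hk⟩ := proj_ker d ⟨(a : Subgroup.centralizer ({z} : Set G)), congrArg Subtype.val ha⟩
  exact ⟨k, Subtype.ext (Subtype.ext (congrArg Subtype.val hk : _ = _))⟩

/-- onto the code group -/
noncomputable def toM24 (h : StdPoint d x) : jointC x →* ↥M24 := piF.comp h.toFrame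

theorem toM24_surjective (h : StdPoint d x) : Function.Surjective h.toM24 :=
  piF_surjective.comp h.toFrame_surjective

theorem toM24_ker (h : StdPoint d x) : IsPGroup 2 h.toM24.ker := by
  rintro ⟨a, ha⟩
  obtain ⟨k, hk⟩ := piF_ker ⟨h.toFrame a, ha⟩
  have hk' : h.toFrame (a ^ 2 ^ k) = 1 := by rw [map_pow]; exact congrArg Subtype.val hk
  obtain ⟨m, hm⟩ := h.toFrame_ker ⟨a ^ 2 ^ k, hk'⟩
  refine ⟨k + m, Subtype.ext ?_⟩
  show a ^ 2 ^ (k + m) = 1
  rw [pow_add, pow_mul]
  exact congrArg Subtype.val hm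

end StdPoint

variable {p w : ℕ} [hp : Fact p.Prime] {L : Type} [Group L]

/-- two elements of the wanted kind have conjugate images in the frame stabiliser -/
theorem image_normal (S : Setting p w L) (hodd : p ≠ 2) {d : Data Q e ψ} {x : Q} (h : StdPoint d x)
    {a : jointC x} (ha : orderOf a = p) (hgood : SylCentral p a ↔ S.central) :
    ∃ n ∈ frameStab, rho n * proj e (a : Subgroup.centralizer ({z} : Set G)) * (rho n)⁻¹ = rho (liftS S.σ) := by
  have ha0 := orderOf_image hodd h.toM24_ker ha
  obtain ⟨n, j, hn⟩ := S.sel _ ha0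
    (((sylCentral_image hodd h.toM24 h.toM24_surjective h.toM24_ker ha).symm).trans hgood)
  have hy : orderOf (h.toFrame a) = p := orderOf_image hodd h.toFrame_ker ha
  have hj : ¬ p ∣ j := by
    intro hd
    rw [show S.σ ^ j = 1 from orderOf_dvd_iff_pow_eq_one.1 (S.order.symm ▸ hd), mul_inv_eq_one,
      mul_eq_left] at hn
    rw [hn, orderOf_one] at ha0
    exact hp.out.ne_one ha0.symm
  obtain ⟨i, hi, hij⟩ := exists_pow_inv hp.out S.order hj
  obtain ⟨m, hm⟩ := S.inducing i hi
  set n1 : ↥frameBar := ⟨rho (liftS (m * n)), rho_perm_mem _⟩ with hn1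
  set s1 : ↥frameBar := ⟨rho (liftS S.σ), rho_perm_mem _⟩ with hs1
  have := Leech.finite_co0
  have : Finite ↥frameBar := Finite.of_surjective rhoFrame rhoFrame_surjective
  have hs : orderOf s1 = p := by
    refine orderOf_eq_prime ?_ fun h1 => ?_
    · refine Subtype.ext ?_
      show rho (permHom S.σ) ^ p = 1
      rw [← map_pow, ← map_pow, show S.σ ^ p = 1 from (congrArg (S.σ ^ ·) S.order).symm.trans (pow_orderOf_eq_one _), map_one, map_one]
    · have h2 := congrArg piF h1
      rw [hs1, piF_perm, map_one] at h2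
      exact hp.out.ne_one (S.order.symm.trans (by rw [h2, orderOf_one]))
  have hne : orderOf (n1 * h.toFrame a * n1⁻¹) = p :=
    (orderOf_injective (MulAut.conj n1).toMonoidHom (MulAut.conj n1).injective (h.toFrame a)).trans hy
  obtain ⟨u, -, hu⟩ := conj_of_image hodd piF piF_ker hne hs (j := 1) (by
    rw [pow_one, map_mul, map_mul, map_inv, hn1, piF_perm, hs1, piF_perm]
    show m * n * h.toM24 a * (m * n)⁻¹ = S.σ
    calc m * n * h.toM24 a * (m * n)⁻¹ = m * (n * h.toM24 a * n⁻¹) * m⁻¹ := by group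
      _ = (S.σ ^ j) ^ i := by
          rw [hn, ← conj_pow, hm, ← pow_mul, ← pow_mul, mul_comm]
      _ = _ := hij)
  obtain ⟨g, hg, hge⟩ := (u * n1).2
  refine ⟨g, hg, ?_⟩
  rw [hge]
  have hu' := congrArg Subtype.val hu
  rw [pow_one] at hu'
  refine Eq.trans ?_ hu'
  show ((u * n1) * h.toFrame a * (u * n1)⁻¹ : ↥frameBar).1 = _
  congr 1
  group

/-- the wanted kind of element becomes the standard one after a change of identification -/
theorem exists_normal_form (S : Setting p w L) (hodd : p ≠ 2) (d : Data Q e ψ) {x : Q}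
    (hx : Typ ψ 64 x) {b : jointC x} (hb : orderOf b = p) (hgood : SylCentral p b ↔ S.central) :
    ∃ (e' : (Subgroup.centralizer ({z} : Set G)) ⧸ Q ≃* Spor.Co1)
      (ψ' : leechLattice → Q ⧸ Subgroup.center Q) (d' : Data Q e' ψ'),
      StdPoint d' x ∧ proj e' (b : Subgroup.centralizer ({z} : Set G)) = rho (liftS S.σ) := by
  obtain ⟨e1, ψ1, d1, hv⟩ := HeldType.exists_std64 d hx
  obtain ⟨n, hn, hne⟩ := image_normal S hodd (d := d1) ⟨hv⟩ hb hgood
  obtain ⟨e2, ψ2, d2, hψ2, hpr⟩ := HeldType.rebase d1 n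
  refine ⟨e2, ψ2, d2, ⟨?_⟩, (hpr _).trans hne⟩
  rw [hψ2, ← hv, psi_congr d1]
  exact inv_mem hn

/-- two elements of the wanted kind in a joint centraliser are conjugate up to powers -/
theorem conj_good (S : Setting p w L) (hodd : p ≠ 2) {d : Data Q e ψ} {x : Q} (h : StdPoint d x)
    {a b : jointC x} (ha : orderOf a = p) (hb : orderOf b = p)
    (hga : SylCentral p a ↔ S.central) (hgb : SylCentral p b ↔ S.central) :
    ∃ u : jointC x, u * a * u⁻¹ = b := by
  obtain ⟨n, hn, hne⟩ := image_normal S hodd h ha hga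
  obtain ⟨m, hm, hme⟩ := image_normal S hodd h hb hgb
  obtain ⟨v, hv⟩ := h.toFrame_surjective (⟨rho m, m, hm, rfl⟩⁻¹ * ⟨rho n, n, hn, rfl⟩)
  obtain ⟨u, -, hu⟩ := conj_of_image hodd h.toFrame h.toFrame_ker
    (a := v * a * v⁻¹) (a' := b) (j := 1)
    ((orderOf_injective (MulAut.conj v).toMonoidHom (MulAut.conj v).injective a).trans ha) hb (by
      rw [pow_one, map_mul, map_mul, map_inv, hv]
      refine Subtype.ext ?_
      show (rho m)⁻¹ * rho n * proj e (a : Subgroup.centralizer ({z} : Set G)) *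
        ((rho m)⁻¹ * rho n)⁻¹ = proj e (b : Subgroup.centralizer ({z} : Set G))
      calc (rho m)⁻¹ * rho n * proj e (a : Subgroup.centralizer ({z} : Set G)) * ((rho m)⁻¹ * rho n)⁻¹
          = (rho m)⁻¹ * (rho n * proj e (a : Subgroup.centralizer ({z} : Set G)) * (rho n)⁻¹) * rho m := by
            group
        _ = _ := by rw [hne, ← hme]; group)
  rw [pow_one] at hu
  refine ⟨u * v, ?_⟩
  rw [← hu]
  group

end Cfsg.Agent.CentType
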