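import Mathlib
import Cfsg.Agent.CentType.Build
import Cfsg.Agent.CentType.Main
import Cfsg.Agent.Leech.Punctured

/-! Helpers for the instances: word evaluation, three-cycles, fixed code words, powers. -/

set_option autoImplicit false
set_option maxRecDepth 8000

namespace Cfsg.Agent.CentType
open Cfsg Cfsg.Agent MonsterType

/-- evaluate a packed word in two elements -/
def evalWord {M : Type*} [Monoid M] (t : Fin 2 → M) : ℕ → ℕ → M
  | 0, _ => 1
  | f + 1, N => if N ≤ 1 then 1 else evalWord t f (N / 2) * t (Fin.ofNat 2 N)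

theorem evalWord_mem {M : Type*} [Group M] (t : Fin 2 → M) :
    ∀ f N, evalWord t f N ∈ Subgroup.closure (Set.range t)
  | 0, _ => Subgroup.one_mem _
  | f + 1, N => by
    rw [evalWord]
    split_ifs
    · exact Subgroup.one_mem _
    · exact mul_mem (evalWord_mem t f _) (Subgroup.subset_closure ⟨_, rfl⟩)

/-- a three-cycle is the product of two transpositions -/
theorem threeCycle_eq {α : Type*} [Fintype α] [DecidableEq α] {σ : Equiv.Perm α}
    (h : σ.IsThreeCycle) :
    ∃ a b c, a ≠ b ∧ b ≠ c ∧ a ≠ c ∧ σ = Equiv.swap a b * Equiv.swap b c := by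
  have hne : σ ≠ 1 := fun e => by
    have := h.orderOf; rw [e, orderOf_one] at this; omega
  obtain ⟨a, ha⟩ : ∃ a, σ a ≠ a := by
    by_contra h0
    push Not at h0
    exact hne (Equiv.ext h0)
  have h3 : σ ^ 3 = 1 := by rw [← h.orderOf]; exact pow_orderOf_eq_one σ
  have h3a : σ (σ (σ a)) = a := by
    have := congrArg (fun f : Equiv.Perm α => f a) h3
    simpa [pow_succ, Equiv.Perm.mul_apply] using this
  have hbc : σ a ≠ σ (σ a) := fun e => ha (σ.injective e).symm
  have hac : a ≠ σ (σ a) := fun e => ha (by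
    have h2 := congrArg σ e
    rw [h3a] at h2
    exact h2)
  refine ⟨a, σ a, σ (σ a), Ne.symm ha, hbc, hac, ?_⟩
  have hsub : ({a, σ a, σ (σ a)} : Finset α) = σ.support := by
    refine Finset.eq_of_subset_of_card_le ?_ ?_
    · intro x hx
      simp only [Finset.mem_insert, Finset.mem_singleton] at hx
      rcases hx with rfl | rfl | rfl
      · exact Equiv.Perm.mem_support.2 ha
      · exact Equiv.Perm.mem_support.2 fun e => hbc e.symm
      · exact Equiv.Perm.mem_support.2 (by rw [h3a]; exact hac)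
    · rw [h.card_support, Finset.card_eq_three.2 ⟨_, _, _, Ne.symm ha, hac, hbc, rfl⟩]
  refine Equiv.ext fun x => ?_
  by_cases hx : x = a
  · subst hx
    simp [Equiv.swap_apply_of_ne_of_ne (Ne.symm ha) hac]
  by_cases hx2 : x = σ a
  · subst hx2
    simp [Equiv.swap_apply_of_ne_of_ne hac.symm hbc.symm]
  by_cases hx3 : x = σ (σ a)
  · subst hx3
    simp [h3a]
  · have : x ∉ σ.support := by rw [← hsub]; simp [hx, hx2, hx3]
    rw [Equiv.Perm.notMem_support.1 this]
    simp [Equiv.swap_apply_of_ne_of_ne hx2 hx3, Equiv.swap_apply_of_ne_of_ne hx hx2]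

/-- a bound on the fixed code words -/
theorem card_fixed_le {σ : ↥M24} {P : List ℕ} {K : ℕ}
    (hP : ∀ q, Leech.idx ((σ : Equiv.Perm GolayPt)⁻¹ q) = P.getD (Leech.idx q) 0)
    (h : ((List.finRange 4096).filter fun (m : Fin 4096) => (List.range 24).all fun q =>
      (Leech.maskOf m).testBit (P.getD q 0) == (Leech.maskOf m).testBit q).length ≤ K) :
    Nat.card {c : ↥golayCode // ∀ q, c.1 ((σ : Equiv.Perm GolayPt)⁻¹ q) = c.1 q} ≤ K := by
  classical
  set L := (List.finRange 4096).filter fun (m : Fin 4096) => (List.range 24).all fun q =>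
    (Leech.maskOf m).testBit (P.getD q 0) == (Leech.maskOf m).testBit q with hL
  have hex : ∀ c : {c : ↥golayCode // ∀ q, c.1 ((σ : Equiv.Perm GolayPt)⁻¹ q) = c.1 q},
      ∃ m, m ∈ L ∧ Leech.enum m = c.1.1 := by
    intro c
    obtain ⟨m, hm⟩ := Leech.exists_enum c.1.2
    refine ⟨m, ?_, hm⟩
    rw [hL, List.mem_filter]
    refine ⟨List.mem_finRange _, List.all_eq_true.2 fun q hq => ?_⟩
    have hq' := List.mem_range.1 hq
    have h1 := c.2 (Leech.ptOf q)
    rw [← hm] at h1
    simp only [Leech.enum, Leech.bitWord, hP, Leech.idx_ptOf q hq'] at h1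
    rw [beq_iff_eq]
    revert h1
    cases (Leech.maskOf m).testBit (P.getD q 0) <;> cases (Leech.maskOf m).testBit q <;> simp
  choose f hf1 hf2 using hex
  refine le_trans ?_ ((List.toFinset_card_le L).trans h)
  rw [← Nat.card_eq_finsetCard]
  refine Nat.card_le_card_of_injective (fun c => ⟨f c, List.mem_toFinset.2 (hf1 c)⟩) fun c c' e => ?_
  refine Subtype.ext (Subtype.ext ?_)
  rw [← hf2 c, ← hf2 c']
  exact congrArg Leech.enum (congrArg Subtype.val e)

/-- all powers prime to `p` are induced when two is a primitive root and is induced -/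
theorem inducing_of_two {p : ℕ} {σ t : ↥M24} (hσ : σ ^ p = 1) (ht : t * σ * t⁻¹ = σ ^ 2)
    (hroot : ∀ j < p, j ≠ 0 → ∃ i < 4, 2 ^ i % p = j) (hp : 0 < p) :
    ∀ j, ¬ p ∣ j → ∃ n, n * σ * n⁻¹ = σ ^ j := by
  intro j hj
  have hpow : ∀ i : ℕ, t ^ i * σ * (t ^ i)⁻¹ = σ ^ 2 ^ i := by
    intro i
    induction i with
    | zero => simp
    | succ i ih =>
      rw [show t ^ (i + 1) * σ * (t ^ (i + 1))⁻¹ = t ^ i * (t * σ * t⁻¹) * (t ^ i)⁻¹ by
        rw [pow_succ]; group, ht, ← conj_pow, ih, ← pow_mul, pow_succ]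
  obtain ⟨i, -, hi⟩ := hroot (j % p) (Nat.mod_lt _ hp) fun e => hj (Nat.dvd_of_mod_eq_zero e)
  refine ⟨t ^ i, ?_⟩
  rw [hpow, ← Nat.mod_add_div (2 ^ i) p, hi, pow_add, pow_mul, hσ, one_pow, mul_one]
  conv_rhs => rw [← Nat.mod_add_div j p, pow_add, pow_mul, hσ, one_pow, mul_one]

/-- the group satisfies no normal nilpotent subgroup condition when simple and not nilpotent -/
theorem nil_bot_of_simple {L : Type*} [Group L] [IsSimpleGroup L] (hL : ¬ Group.IsNilpotent L) :
    ∀ N : Subgroup L, N.Normal → Group.IsNilpotent ↥N → N = ⊥ := fun N hN hnil =>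
  (IsSimpleGroup.eq_bot_or_eq_top_of_normal N hN).resolve_right fun h => by
    subst h
    exact hL ((Group.isNilpotent_congr Subgroup.topEquiv).1 hnil)

end Cfsg.Agent.CentType
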