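import Mathlib
import Cfsg.Agent.CentType.Tools
import Cfsg.Agent.CentType.CentralData
import Cfsg.Agent.CentType.CodeTools
import Cfsg.Agent.Compute.Classes

/-! The central element of order three in the code group: its centraliser bound and its class. -/

set_option autoImplicit false
set_option maxRecDepth 8000

namespace Cfsg.Agent.CentType.Central
open Cfsg Cfsg.Agent Cfsg.Agent.CentType Cfsg.Agent.Compute
open scoped Pointwise

theorem sigCode_ok : rep24.okb sigCode = true := by decide +kernel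

theorem sigCode_act : ∀ q, ptIdx (sig q) = rep24.act sigCode (ptIdx q) := by decide +kernel

theorem den_sigCode : rep24.den sigCode = sig :=
  Equiv.ext fun q => ptIdx_injective (by rw [ptIdx_den (rep24.okb_sound _ sigCode_ok), sigCode_act])

theorem first_cycle : sig (rep24.pt 0) = rep24.pt 1 ∧ sig (rep24.pt 1) = rep24.pt 2 := by
  have h : ∀ i < 2, ptIdx (sig (rep24.pt i)) = i + 1 := by
    intro i hi
    rw [sigCode_act, ptIdx_rep24 (by omega)]
    revert i
    decide +kernel
  refine ⟨ptIdx_injective ?_, ptIdx_injective ?_⟩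
  · rw [h 0 (by norm_num), ptIdx_rep24 (by norm_num)]
  · rw [h 1 (by norm_num), ptIdx_rep24 (by norm_num)]

theorem stab_list : ((rep24.chainElems [m24bL3, m24bL4, m24bL5, m24bL6]).filter fun c =>
    commCodes c sigCode).length ≤ 60 := by decide +kernel

theorem chain_facts : m24bL0.base = 0 ∧ m24bL1.base = 1 ∧ m24bL2.base = 2 := ⟨rfl, rfl, rfl⟩

theorem card_cent : Nat.card ↥(Subgroup.centralizer ({sigM} : Set ↥M24)) ≤ 1080 := by
  have k1 := Rep.checkChain_tail m24b_check
  have k2 := Rep.checkChain_tail k1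
  have k3 := Rep.checkChain_tail k2
  refine card_centralizer_le (σ := sigM) (rep24.okb_sound _ sigCode_ok) den_sigCode
    [m24bL3, m24bL4, m24bL5, m24bL6] k3 ?_ ?_ (A := 18) (B := 60) (by decide +kernel) stab_list
  · intro x hx h0 hstep
    have h1 : x (rep24.pt 1) = rep24.pt 1 := first_cycle.1 ▸ hstep _ h0
    have h2 : x (rep24.pt 2) = rep24.pt 2 := first_cycle.2 ▸ hstep _ h1
    have m0 : x ∈ rep24.chainGroup m24bChain := m24_bChain ▸ hx
    have m1 : x ∈ rep24.chainGroup _ :=
      Rep.chainGroup_inf_stabilizer m24b_check chain_facts.1 ▸ Subgroup.mem_inf.mpr ⟨m0, h0⟩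
    have m2 : x ∈ rep24.chainGroup _ :=
      Rep.chainGroup_inf_stabilizer k1 chain_facts.2.1 ▸ Subgroup.mem_inf.mpr ⟨m1, h1⟩
    exact Rep.chainGroup_inf_stabilizer k2 chain_facts.2.2 ▸ Subgroup.mem_inf.mpr ⟨m2, h2⟩
  · show sig (rep24.pt 0) ≠ rep24.pt 0
    rw [first_cycle.1]
    exact fun h => by
      have := congrArg ptIdx h
      rw [ptIdx_rep24 (by norm_num), ptIdx_rep24 (by norm_num)] at this
      omega

theorem cert_checks : inM24B cenConj = true ∧ inM24B cenCode = true ∧
    rep24.mul cenConj cenCode = rep24.mul sigCode cenConj ∧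
    (topGens syl3Chain).all (fun g => commCodes cenCode g) = true ∧
    (topGens syl3Chain).all rep24.okb = true ∧
    (rep24.chainElems syl3Chain).any (fun c => commCodes cenCode c &&
      allBelow 24 (fun i => Nat.beq (rep24.act c i) (rep24.act cenCode i))) = true ∧
    (rep24.chainElems syl3Chain).all (fun c => !((topGens syl3Chain).all fun g => commCodes c g) ||
      (List.range 3).any fun j => allBelow 24 fun i =>
        Nat.beq (rep24.act c i) ((rep24.act cenCode)^[j] i)) = true := by decide +kernel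

/-- codes in the element list of a chain lie in its group -/
theorem chainElems_mem' {G : Type*} [Group G] [Finite G] {Ω : Type*} [MulAction G Ω]
    (R : Compute.Rep G Ω) : ∀ (K : List Level), R.checkChain K = true → ∀ {c : ℕ}, c ∈ R.chainElems K →
      R.Ok c ∧ R.den c ∈ R.chainGroup K := by
  intro K
  induction K with
  | nil =>
      intro _ c hc
      simp [Rep.chainElems] at hc
      subst hc
      exact ⟨R.ok_one, by rw [R.den_one]; exact one_mem _⟩
  | cons L Ls ih =>
      intro hchk c hc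
      obtain ⟨j, -, hc'⟩ := List.mem_flatMap.mp hc
      obtain ⟨d, hd, rfl⟩ := List.mem_map.mp hc'
      obtain ⟨hok, hmem⟩ := ih (Rep.checkChain_tail hchk) hd
      have h := R.levelOK_of_check (by rw [R.checkChain_cons, Bool.and_eq_true] at hchk; exact hchk.1)
      refine ⟨R.ok_mul _ _ (h.entry_all j).1 hok, ?_⟩
      rw [R.den_mul _ _ (h.entry_all j).1 hok]
      exact mul_mem (h.entry_mem j) (Rep.chainGroup_next_le hchk hmem)

theorem den_pow {c : ℕ} (hc : rep24.Ok c) : ∀ (j : ℕ) (q : GolayPt),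
    ptIdx ((rep24.den c ^ j) q) = (rep24.act c)^[j] (ptIdx q)
  | 0, q => by simp
  | j + 1, q => by
    rw [pow_succ', Equiv.Perm.mul_apply, ptIdx_den hc, den_pow hc j q, Function.iterate_succ_apply']

/-- every central element of order three is conjugate to a power of the permutation -/
theorem sel (y : ↥M24) (hy : orderOf y = 3) (hcen : SylCentral 3 y) :
    ∃ n j, n * y * n⁻¹ = sigM ^ j := by
  have := Fact.mk Nat.prime_three
  obtain ⟨hn, hc, e2, hcomm, hgok, hel, hcenter⟩ := cert_checks
  obtain ⟨hnok, hnM⟩ := mem_M24_of_check hn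
  obtain ⟨hcok, hcM⟩ := mem_M24_of_check hc
  obtain ⟨hchk, hgens, hsize⟩ := syl_checks.2
  set P := rep24.chainGroup syl3Chain with hP
  have hle : P ≤ M24 := by
    rw [hP, Rep.chainGroup, Rep.span, Subgroup.closure_le]
    rintro _ ⟨t, ht, rfl⟩
    exact (mem_M24_of_check (List.all_eq_true.mp hgens t ht)).2
  have hcard : Nat.card ↥(P.subgroupOf M24) = 3 ^ 3 := by
    rw [Nat.card_congr (Subgroup.subgroupOfEquivOfLe hle).toEquiv, hP, Rep.card_chainGroup _ hchk, hsize]
  have hf : (Nat.card ↥M24).factorization 3 = 3 := by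
    rw [Compute.card_m24, Nat.factorization_def _ Nat.prime_three,
      show (244823040 : ℕ) = 3 ^ 3 * 9067520 from by norm_num]
    rw [padicValNat.mul (by norm_num) (by norm_num), padicValNat.prime_pow,
      padicValNat.eq_zero_of_not_dvd (by norm_num)]
  let S : Sylow 3 ↥M24 := Sylow.ofCard (P.subgroupOf M24) (by rw [hcard, hf])
  obtain ⟨T, hyT, hTc⟩ := hcen
  obtain ⟨g, hg⟩ := MulAction.exists_smul_eq ↥M24 T S
  set y' := g * y * g⁻¹ with hy'
  have hmap : (S : Subgroup ↥M24) = (T : Subgroup ↥M24).map (MulAut.conj g).toMonoidHom := by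
    rw [← hg]; rfl
  have hy'P : ((y' : ↥M24) : Equiv.Perm GolayPt) ∈ P := by
    have : y' ∈ (S : Subgroup ↥M24) := hmap ▸ ⟨y, hyT, rfl⟩
    exact this
  have hy'c : ∀ t ∈ P, ((y' : ↥M24) : Equiv.Perm GolayPt) * t = t * (y' : ↥M24) := by
    intro t ht
    have hts : (⟨t, hle ht⟩ : ↥M24) ∈ (S : Subgroup ↥M24) := ht
    rw [hmap] at hts
    obtain ⟨t0, ht0, e⟩ := hts
    have h := congrArg (fun x => g * x * g⁻¹) (hTc t0 ht0)
    have e' : g * t0 * g⁻¹ = ⟨t, hle ht⟩ := e
    have h' : y' * ⟨t, hle ht⟩ = ⟨t, hle ht⟩ * y' := by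
      rw [← e', hy']
      calc g * y * g⁻¹ * (g * t0 * g⁻¹) = g * (y * t0) * g⁻¹ := by group
        _ = g * (t0 * y) * g⁻¹ := h
        _ = _ := by group
    exact congrArg Subtype.val h'
  obtain ⟨c, hcm, hcok', hcden⟩ := rep24.exists_elem _ hchk hy'P
  have hall : (topGens syl3Chain).all (fun g => commCodes c g) = true := by
    refine List.all_eq_true.2 fun t ht => ?_
    have htok := rep24.okb_sound _ (List.all_eq_true.mp hgok t ht)
    refine (commCodes_iff hcok' htok).2 ?_
    rw [hcden]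
    exact hy'c _ (by rw [hP, Rep.chainGroup, Rep.span]; exact Subgroup.subset_closure ⟨t, ht, rfl⟩)
  have h3 := List.all_eq_true.1 hcenter c hcm
  rw [Bool.or_eq_true] at h3
  obtain ⟨j, -, hj⟩ := List.any_eq_true.1 (h3.resolve_left (by rw [hall]; decide))
  have hyj : ((y' : ↥M24) : Equiv.Perm GolayPt) = rep24.den cenCode ^ j := by
    refine Equiv.ext fun p => ptIdx_injective ?_
    rw [← hcden, ptIdx_den hcok', den_pow hcok]
    exact Nat.eq_of_beq_eq_true (allBelow_eq_true.1 hj _ (ptIdx_lt p))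
  have e2' := congrArg rep24.den e2
  rw [rep24.den_mul _ _ hnok hcok, rep24.den_mul _ _ (rep24.okb_sound _ sigCode_ok) hnok, den_sigCode] at e2'
  refine ⟨⟨_, hnM⟩ * g, j, ?_⟩
  have hconj : (⟨_, hnM⟩ : ↥M24) * ⟨_, hcM⟩ * (⟨_, hnM⟩ : ↥M24)⁻¹ = sigM :=
    Subtype.ext (show rep24.den cenConj * rep24.den cenCode * (rep24.den cenConj)⁻¹ = sig by
      rw [e2', mul_inv_cancel_right])
  have hy2 : y' = (⟨_, hcM⟩ : ↥M24) ^ j := Subtype.ext (by rw [hyj]; rfl)
  rw [← hconj, conj_pow, ← hy2, hy']
  group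

end Cfsg.Agent.CentType.Central
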