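import Mathlib
import Cfsg.Agent.CentType.CentralData
import Cfsg.Agent.Leech.UnitModelU43
import Cfsg.Agent.Leech.UnitaryIso

/-! The permutations of two families of classes: the image on the first contains a model of the
four-dimensional unitary group with index two, and the kernel there has order at least three. -/

set_option autoImplicit false
set_option maxRecDepth 8000

namespace Cfsg.Agent.CentType.Central
open Cfsg Cfsg.Agent
open Cfsg.Agent.Leech.Model (pk packCheck IsPacked evW genGroup exists_isPacked)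

/-- generators of the model -/
def uP : List ℕ := Leech.u43Data.bperm

theorem permA_check : permA.all (packCheck 280) = true ∧ permB.all (packCheck 378) = true ∧
    uP.all (packCheck 280) = true ∧ permA.length = 2 ∧ permB.length = 2 ∧ uP.length = 3 := by
  decide +kernel

theorem getA (i : Fin 2) : packCheck 280 (permA.getD (i : ℕ) 0) = true := by
  have hlen := permA_check.2.2.2.1
  rw [List.getD_eq_getElem _ _ (by omega)]
  exact List.all_eq_true.1 permA_check.1 _ (List.getElem_mem _)

theorem getB (i : Fin 2) : packCheck 378 (permB.getD (i : ℕ) 0) = true := by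
  have hlen := permA_check.2.2.2.2.1
  rw [List.getD_eq_getElem _ _ (by omega)]
  exact List.all_eq_true.1 permA_check.2.1 _ (List.getElem_mem _)

/-- on the sets -/
noncomputable def tauA (i : Fin 2) : Equiv.Perm (Fin 280) := (exists_isPacked (getA i)).choose

/-- on the short classes -/
noncomputable def tauB (i : Fin 2) : Equiv.Perm (Fin 378) := (exists_isPacked (getB i)).choose

theorem tauA_spec (i : Fin 2) : IsPacked (permA.getD (i : ℕ) 0) (tauA i) :=
  (exists_isPacked (getA i)).choose_spec

theorem tauB_spec (i : Fin 2) : IsPacked (permB.getD (i : ℕ) 0) (tauB i) :=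
  (exists_isPacked (getB i)).choose_spec

/-- the pairs -/
noncomputable def pairT (i : Fin 2) : Equiv.Perm (Fin 280) × Equiv.Perm (Fin 378) := (tauA i, tauB i)

/-- on both families -/
noncomputable def tau (i : Fin 2) : Equiv.Perm (Fin 280 ⊕ Fin 378) :=
  Equiv.Perm.sumCongrHom _ _ (pairT i)

/-- the group of pairs -/
noncomputable def Wp : Subgroup (Equiv.Perm (Fin 280) × Equiv.Perm (Fin 378)) :=
  Subgroup.closure (Set.range pairT)

/-- the group on both families -/
noncomputable def W : Subgroup (Equiv.Perm (Fin 280 ⊕ Fin 378)) :=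
  Wp.map (Equiv.Perm.sumCongrHom _ _)

theorem W_le : W ≤ Subgroup.closure (Set.range tau) := by
  rw [W, Wp, MonoidHom.map_closure, ← Set.range_comp]
  exact le_rfl

/-- pairs and permutations -/
noncomputable def eW : ↥Wp ≃* ↥W :=
  Subgroup.equivMapOfInjective Wp _ Equiv.Perm.sumCongrHom_injective

/-- restriction to the sets -/
noncomputable def piA : ↥W →* Equiv.Perm (Fin 280) :=
  ((MonoidHom.fst _ _).comp Wp.subtype).comp eW.symm.toMonoidHom

theorem piA_range : piA.range = Subgroup.closure (Set.range tauA) := by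
  rw [piA, MonoidHom.range_comp, MonoidHom.range_eq_top.2 eW.symm.surjective,
    ← MonoidHom.range_eq_map, MonoidHom.range_comp,
    Subgroup.range_subtype, Wp, MonoidHom.map_closure, ← Set.range_comp]
  rfl

theorem range_eq_gen : piA.range = genGroup 280 permA := by
  rw [piA_range, genGroup]
  refine congrArg Subgroup.closure (Set.ext fun g => ⟨?_, ?_⟩)
  · rintro ⟨i, rfl⟩
    refine ⟨_, ?_, tauA_spec i⟩
    have hlen := permA_check.2.2.2.1
    rw [List.getD_eq_getElem _ _ (by omega)]
    exact List.getElem_mem _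
  · rintro ⟨P, hP, hg⟩
    obtain ⟨j, hj, rfl⟩ := List.getElem_of_mem hP
    rw [permA_check.2.2.2.1] at hj
    refine ⟨⟨j, hj⟩, IsPacked.unique ?_ hg⟩
    have h := tauA_spec ⟨j, hj⟩
    rwa [List.getD_eq_getElem _ _ (by rw [permA_check.2.2.2.1]; exact hj)] at h

/-- the model group -/
def mG : Subgroup (Equiv.Perm (Fin 280)) := genGroup 280 uP

theorem range_word (w : List ℕ) (hw : (w.all fun a => Nat.blt a 2) = true) :
    ∃ g ∈ piA.range, ∀ x : Fin 280, (g x : ℕ) = evW permA w x := by
  rw [range_eq_gen]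
  exact Leech.Model.exists_word permA permA_check.1 w (by rw [permA_check.2.2.2.1]; exact hw)

theorem model_word (w : List ℕ) (hw : (w.all fun a => Nat.blt a 3) = true) :
    ∃ g ∈ mG, ∀ x : Fin 280, (g x : ℕ) = evW uP w x :=
  Leech.Model.exists_word uP permA_check.2.2.1 w (by rw [permA_check.2.2.2.2.2]; exact hw)

theorem word_checks :
    ((List.range 3).all fun j => (uWords.getD j []).all (fun a => Nat.blt a 2) &&
      (List.range 280).all fun x => Nat.beq (evW permA (uWords.getD j []) x) (evW uP [j] x)) = true ∧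
    ((List.range 2).all fun i => (List.range 3).all fun j =>
      ((conjWords.getD i []).getD j []).all (fun a => Nat.blt a 3) &&
      (List.range 280).all fun x => Nat.beq (pk 10 (permA.getD i 0) (evW uP [j] x))
        (evW uP ((conjWords.getD i []).getD j []) (pk 10 (permA.getD i 0) x))) = true ∧
    (secondWord.all (fun a => Nat.blt a 3) &&
      (List.range 280).all fun x => Nat.beq (evW uP secondWord x) (evW permA [1] x)) = true ∧
    ((List.range 280).all fun x => Nat.beq (evW permA [0, 0] x) x) = true := by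
  decide +kernel

theorem uP_get (j : ℕ) (hj : j < 3) :
    ∃ g, IsPacked (uP.getD j 0) g ∧ g ∈ mG ∧ ∀ x : Fin 280, (g x : ℕ) = evW uP [j] x := by
  obtain ⟨g, hg, he⟩ := model_word [j] (by simp [hj])
  refine ⟨g, fun x => ?_, hg, he⟩
  rw [he]; rfl

theorem mG_le : mG ≤ piA.range := by
  refine (Subgroup.closure_le _).2 ?_
  rintro g ⟨P, hP, hg⟩
  obtain ⟨j, hj, rfl⟩ := List.getElem_of_mem hP
  rw [permA_check.2.2.2.2.2] at hj
  have h := List.all_eq_true.1 word_checks.1 j (List.mem_range.2 hj)
  rw [Bool.and_eq_true] at h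
  obtain ⟨g', hg', he⟩ := range_word _ h.1
  have : g = g' := Equiv.ext fun x => Fin.ext (by
    rw [he, Nat.eq_of_beq_eq_true (List.all_eq_true.1 h.2 _ (List.mem_range.2 x.2)), hg]
    show _ = pk 10 (uP.getD j 0) x
    rw [List.getD_eq_getElem _ _ (by rw [permA_check.2.2.2.2.2]; exact hj)])
  exact this ▸ hg'

theorem tauA_zero_sq : tauA 0 * tauA 0 = 1 := Equiv.ext fun x => Fin.ext (by
  rw [Equiv.Perm.mul_apply, tauA_spec, tauA_spec, Equiv.Perm.one_apply]
  exact Nat.eq_of_beq_eq_true (List.all_eq_true.1 word_checks.2.2.2 _ (List.mem_range.2 x.2)))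

theorem tauA_one_mem : tauA 1 ∈ mG := by
  have h := word_checks.2.2.1
  rw [Bool.and_eq_true] at h
  obtain ⟨g, hg, he⟩ := model_word _ h.1
  have : tauA 1 = g := Equiv.ext fun x => Fin.ext (by
    rw [he, Nat.eq_of_beq_eq_true (List.all_eq_true.1 h.2 _ (List.mem_range.2 x.2)), tauA_spec]
    rfl)
  exact this ▸ hg

theorem range_le_normalizer : piA.range ≤ Subgroup.normalizer (mG : Set (Equiv.Perm (Fin 280))) := by
  rw [piA_range, Subgroup.closure_le]
  rintro _ ⟨i, rfl⟩
  have hle : mG.map (MulAut.conj (tauA i)).toMonoidHom ≤ mG := by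
    rw [mG, genGroup, MonoidHom.map_closure, Subgroup.closure_le]
    rintro _ ⟨g, ⟨P, hP, hg⟩, rfl⟩
    obtain ⟨j, hj, rfl⟩ := List.getElem_of_mem hP
    rw [permA_check.2.2.2.2.2] at hj
    have h := List.all_eq_true.1 (List.all_eq_true.1 word_checks.2.1 i (List.mem_range.2 i.2)) j
      (List.mem_range.2 hj)
    rw [Bool.and_eq_true] at h
    obtain ⟨g', hg', he⟩ := model_word _ h.1
    have hcomm : tauA i * g = g' * tauA i := Equiv.ext fun x => Fin.ext (by
      rw [Equiv.Perm.mul_apply, Equiv.Perm.mul_apply, he, tauA_spec, tauA_spec]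
      have e := Nat.eq_of_beq_eq_true (List.all_eq_true.1 h.2 _ (List.mem_range.2 x.2))
      rw [← e, hg]
      show _ = pk 10 _ (pk 10 (uP.getD j 0) x)
      rw [List.getD_eq_getElem uP 0 (by rw [permA_check.2.2.2.2.2]; exact hj)])
    show tauA i * g * (tauA i)⁻¹ ∈ mG
    rw [hcomm, mul_inv_cancel_right]
    exact hg'
  have heq : mG.map (MulAut.conj (tauA i)).toMonoidHom = mG :=
    Subgroup.eq_of_le_of_card_ge hle
      (Subgroup.card_map_of_injective (MulAut.conj (tauA i)).injective).ge
  rw [SetLike.mem_coe, Subgroup.mem_normalizer_iff]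
  intro g
  constructor
  · intro hg
    rw [← heq]
    exact ⟨g, hg, rfl⟩
  · intro hg
    rw [← heq] at hg
    obtain ⟨g0, hg0, e⟩ := hg
    rwa [← (MulAut.conj (tauA i)).injective e]

/-- inside the image -/
noncomputable def mR : Subgroup ↥piA.range := mG.subgroupOf piA.range

instance : mR.Normal := Subgroup.normal_subgroupOf_iff_le_normalizer mG_le |>.2 range_le_normalizer

theorem range_index_le : mR.index ≤ 2 := by
  rw [Subgroup.index_eq_card]
  let u : ↥piA.range := ⟨tauA 0, piA_range ▸ Subgroup.subset_closure ⟨0, rfl⟩⟩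
  have hu2 : (QuotientGroup.mk u : ↥piA.range ⧸ mR) ^ 2 = 1 := by
    rw [← QuotientGroup.mk_pow, show u ^ 2 = 1 from Subtype.ext (by rw [sq]; exact tauA_zero_sq)]
    rfl
  have htop : Subgroup.zpowers (QuotientGroup.mk u : ↥piA.range ⧸ mR) = ⊤ := by
    rw [eq_top_iff]
    intro y _
    obtain ⟨⟨r, hr⟩, rfl⟩ := QuotientGroup.mk_surjective y
    revert hr
    have key : piA.range ≤ ((Subgroup.zpowers (QuotientGroup.mk u : ↥piA.range ⧸ mR)).comap
        (QuotientGroup.mk' mR)).map piA.range.subtype := by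
      conv_lhs => rw [piA_range]
      rw [Subgroup.closure_le]
      rintro _ ⟨i, rfl⟩
      refine ⟨⟨tauA i, piA_range ▸ Subgroup.subset_closure ⟨i, rfl⟩⟩, ?_, rfl⟩
      rw [SetLike.mem_coe, Subgroup.mem_comap, QuotientGroup.mk'_apply]
      fin_cases i
      · exact Subgroup.mem_zpowers _
      · have e1 : (QuotientGroup.mk (⟨tauA 1, piA_range ▸ Subgroup.subset_closure ⟨1, rfl⟩⟩ : ↥piA.range) :
            ↥piA.range ⧸ mR) = 1 :=
          (QuotientGroup.eq_one_iff _).2 (Subgroup.mem_subgroupOf.2 tauA_one_mem)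
        exact e1 ▸ one_mem _
    intro hr _
    obtain ⟨⟨r', hr'⟩, hm, he⟩ := key hr
    obtain rfl : r' = r := he
    exact hm
  rw [← Subgroup.card_top, ← htop, Nat.card_zpowers]
  exact orderOf_le_of_pow_eq_one two_pos hu2

theorem chain_ok : Leech.Model.chainCheck 280 permA [] setChain = true := by decide +kernel

theorem range_card_ge : 6531840 ≤ Nat.card ↥piA.range := by
  rw [range_eq_gen]
  exact (by decide +kernel : 6531840 ≤ Leech.Model.chainProd setChain).trans
    (Leech.Model.chain_card _ _ permA_check.1 chain_ok)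

/-- the field -/
abbrev F9 : Type := GaloisField 3 2

noncomputable instance : Fintype F9 := Fintype.ofFinite _

theorem card_F9 : Fintype.card F9 = 9 := by
  rw [← Nat.card_eq_fintype_card, GaloisField.card 3 2 (by norm_num)]; norm_num

theorem card_PSU : Nat.card (PSU 4 F9 3) = 3265920 := by
  have h := Leech.Model.card_PSU_mul (F := F9) (q := 3) (n := 4) (by rw [card_F9]; norm_num) (by norm_num)
  norm_num [Finset.prod_range_succ, Nat.gcd_eq_gcd_ab] at h
  omega

theorem model_equiv : Nonempty (PSU 4 F9 3 ≃* ↥mG) := by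
  have := Leech.Model.charP_of_card (F := F9) 3 (by norm_num) (by rw [card_F9]; norm_num)
  obtain ⟨r, hr⟩ := Leech.Model.exists_root_9 (F := F9) card_F9
  exact @Leech.Model.unitary_iso F9 _ _ Leech.u43UData 7645 Leech.u43_uCheck
    this r hr (by rw [card_F9]; rfl) (by decide) (card_PSU.le.trans Leech.u43_card)

theorem card_mG : Nat.card ↥mG = 3265920 := by
  obtain ⟨e⟩ := model_equiv
  rw [← Nat.card_congr e.toEquiv, card_PSU]

theorem mR_card : Nat.card ↥mR = 3265920 := by
  exact (Nat.card_congr (Subgroup.subgroupOfEquivOfLe mG_le).toEquiv).trans card_mG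

theorem range_card : Nat.card ↥piA.range = 6531840 := by
  refine le_antisymm ?_ range_card_ge
  rw [← mR.card_mul_index, mR_card]
  exact Nat.mul_le_mul_left _ range_index_le

theorem mG_relIndex : mG.relIndex piA.range = 2 := by
  have h := mR.card_mul_index
  rw [mR_card, range_card] at h
  show mR.index = 2
  omega

/-- the evaluation of a word on pairs -/
noncomputable def evP (w : List ℕ) : Equiv.Perm (Fin 280) × Equiv.Perm (Fin 378) :=
  (w.map fun a => pairT (Fin.ofNat 2 a)).prod

theorem evP_mem (w : List ℕ) : evP w ∈ Wp :=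
  list_prod_mem fun x hx => by
    obtain ⟨a, -, rfl⟩ := List.mem_map.1 hx
    exact Subgroup.subset_closure ⟨_, rfl⟩

theorem evP_spec : ∀ w : List ℕ, (w.all fun a => Nat.blt a 2) = true →
    (∀ x, (((evP w).1 x : Fin 280) : ℕ) = evW permA w x) ∧
    ∀ x, (((evP w).2 x : Fin 378) : ℕ) = evW permB w x
  | [], _ => ⟨fun _ => rfl, fun _ => rfl⟩
  | a :: w, h => by
    rw [List.all_cons, Bool.and_eq_true] at h
    obtain ⟨i1, i2⟩ := evP_spec w h.2
    have ha : a < 2 := by simpa using h.1
    have hof : ((Fin.ofNat 2 a : Fin 2) : ℕ) = a := Nat.mod_eq_of_lt ha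
    have he : evP (a :: w) = pairT (Fin.ofNat 2 a) * evP w := by simp [evP]
    refine ⟨fun x => ?_, fun x => ?_⟩
    · rw [he, Prod.fst_mul, Equiv.Perm.mul_apply, pairT, tauA_spec, i1, hof]; rfl
    · rw [he, Prod.snd_mul, Equiv.Perm.mul_apply, pairT, tauB_spec, i2, hof]; rfl

theorem ker_checks : kerWord.all (fun a => Nat.blt a 2) = true ∧
    ((List.range 280).all fun x => Nat.beq (evW permA kerWord x) x) = true ∧
    (evW permB kerWord 0 == 0) = false ∧ (evW permB (kerWord ++ kerWord) 0 == 0) = false := by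
  decide +kernel

theorem ker_card_ge : 3 ≤ Nat.card ↥piA.ker := by
  obtain ⟨h1, h2, h3, h4⟩ := ker_checks
  obtain ⟨s1, s2⟩ := evP_spec kerWord h1
  obtain ⟨-, t2⟩ := evP_spec (kerWord ++ kerWord) (by rw [List.all_append, h1]; rfl)
  set K : ↥W := eW ⟨evP kerWord, evP_mem _⟩ with hK
  have hker : K ∈ piA.ker := by
    rw [MonoidHom.mem_ker]
    show ((eW.symm K : ↥Wp) : Equiv.Perm (Fin 280) × Equiv.Perm (Fin 378)).1 = 1
    rw [hK, MulEquiv.symm_apply_apply]
    exact Equiv.ext fun x => Fin.ext
      ((s1 x).trans (Nat.eq_of_beq_eq_true (List.all_eq_true.1 h2 _ (List.mem_range.2 x.2))))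
  set k : ↥piA.ker := ⟨K, hker⟩
  have hval : ∀ n : ℕ, k ^ n = 1 → evP kerWord ^ n = 1 := fun n e => by
    have e1 : eW.symm (K ^ n) = eW.symm 1 :=
      congrArg (fun y : ↥piA.ker => eW.symm (y : ↥W)) e
    rw [map_pow, map_one, hK, MulEquiv.symm_apply_apply] at e1
    exact congrArg Subtype.val e1
  have n1 : k ≠ 1 := fun e => by
    have := hval 1 (by rw [pow_one]; exact e)
    rw [pow_one] at this
    have h0 := s2 (0 : Fin 378)
    rw [this, Prod.snd_one, Equiv.Perm.one_apply] at h0
    rw [Fin.val_zero] at h0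
    rw [← h0, beq_self_eq_true] at h3
    exact Bool.noConfusion h3
  have n2 : k * k ≠ 1 := fun e => by
    have := hval 2 (by rw [sq]; exact e)
    have h0 := t2 (0 : Fin 378)
    rw [show evP (kerWord ++ kerWord) = evP kerWord ^ 2 by simp [evP, sq], this, Prod.snd_one,
      Equiv.Perm.one_apply] at h0
    rw [Fin.val_zero] at h0
    rw [← h0, beq_self_eq_true] at h4
    exact Bool.noConfusion h4
  classical
  have hcard : ({1, k, k * k} : Finset ↥piA.ker).card = 3 :=
    Finset.card_eq_three.2 ⟨_, _, _, Ne.symm n1, Ne.symm n2,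
      fun e => n1 (by simpa using e), rfl⟩
  have := Fintype.ofFinite ↥piA.ker
  rw [Nat.card_eq_fintype_card, ← hcard]
  exact Finset.card_le_univ _

theorem W_card_ge : 19595520 ≤ Nat.card ↥W := by
  rw [← piA.ker.card_mul_index, Subgroup.index_ker, range_card]
  exact (Nat.mul_le_mul_right 6531840 ker_card_ge)

/-! ### no normal two-subgroup -/

/-- three steps of growth under two words -/
def grow : ℕ → List ℕ → List ℕ
  | 0, l => l
  | n + 1, l => grow n ((l ++ l.map (evW permA (stabWords.getD 0 [])) ++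
      l.map (evW permA (stabWords.getD 1 []))).eraseDups)

theorem grow_checks :
    (stabWords.all fun w => w.all (fun a => Nat.blt a 2) && Nat.beq (evW permA w 0) 0) = true ∧
    stabWords.length = 2 ∧
    ((List.range 280).all fun b => Nat.beq b 0 || Nat.blt 8 (grow 4 [b]).toFinset.card) = true := by
  decide +kernel

theorem tree_checks :
    (match setChain with
      | [] => false
      | L :: _ => Nat.beq L.base 0 && Nat.beq L.size 280 && Leech.Model.Level.check 280 permA [] L) = true := by
  decide +kernel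

theorem reach (x : Fin 280) : ∃ g ∈ piA.range, g 0 = x := by
  have h := tree_checks
  revert h
  cases setChain with
  | nil => simp
  | cons L t =>
    intro h
    simp only [Bool.and_eq_true, Leech.Model.Level.check] at h
    obtain ⟨⟨hb, hsz⟩, ⟨⟨⟨⟨hwd, -⟩, -⟩, h0⟩, htree⟩, hnd⟩ := h
    have hsz' : L.size = 280 := Nat.eq_of_beq_eq_true hsz
    have horb : ∀ k, k < 280 → ∃ g ∈ piA.range, ((g 0 : Fin 280) : ℕ) = pk 10 L.pts k := by
      intro k
      induction k using Nat.strong_induction_on with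
      | _ k ihk =>
        intro hk
        by_cases hk0 : k = 0
        · subst hk0
          refine ⟨1, one_mem _, ?_⟩
          rw [Nat.eq_of_beq_eq_true h0, Nat.eq_of_beq_eq_true hb]
          rfl
        · have hk' := List.all_eq_true.1 htree k (List.mem_range.2 (hsz'.symm ▸ hk))
          rw [Bool.or_eq_true] at hk'
          have hk'' := hk'.resolve_left fun e => hk0 (Nat.eq_of_beq_eq_true e)
          simp only [Bool.and_eq_true] at hk''
          obtain ⟨⟨hp, hl⟩, he⟩ := hk''
          obtain ⟨g, hg, hgb⟩ := ihk (pk 10 L.par k) (by simpa using hp) (by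
            have : pk 10 L.par k < k := by simpa using hp
            omega)
          have hl' : pk 10 L.lab k < L.words.length := by simpa using hl
          have hw : L.words.getD (pk 10 L.lab k) [] ∈ L.words := by
            rw [List.getD_eq_getElem _ _ hl']
            exact List.getElem_mem hl'
          have hwd' := List.all_eq_true.1 hwd _ hw
          rw [permA_check.2.2.2.1] at hwd'
          obtain ⟨s, hs, hsi⟩ := range_word _ hwd'
          refine ⟨s * g, mul_mem hs hg, ?_⟩
          rw [Equiv.Perm.mul_apply, hsi, hgb]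
          exact Nat.eq_of_beq_eq_true he
    choose g hg hgb using horb
    let f : Fin 280 → Fin 280 := fun k => g k k.2 0
    have hf : Function.Injective f := fun i j e => Fin.ext <| Leech.Model.noRep_range hnd
      (hsz'.symm ▸ i.2) (hsz'.symm ▸ j.2) <| by
        rw [← hgb i i.2, ← hgb j j.2]; exact congrArg Fin.val e
    obtain ⟨k, hk⟩ := (Finite.injective_iff_surjective.1 hf) x
    exact ⟨g k k.2, hg k k.2, hk⟩

theorem range_no_two (P : Subgroup (Equiv.Perm (Fin 280))) (hP : P ≤ piA.range)
    (hn : ∀ g ∈ piA.range, ∀ y ∈ P, g * y * g⁻¹ ∈ P) (h2 : IsPGroup 2 ↥P) : P = ⊥ := by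
  classical
  have : Fact (Nat.Prime 2) := ⟨Nat.prime_two⟩
  -- the block of the first point
  set Δ := MulAction.orbit ↥P (0 : Fin 280) with hΔ
  have hmove : ∀ g ∈ piA.range, ∀ b ∈ Δ, g b ∈ MulAction.orbit ↥P (g 0) := by
    rintro g hg _ ⟨⟨y, hy⟩, rfl⟩
    refine ⟨⟨g * y * g⁻¹, hn g hg y hy⟩, ?_⟩
    show (g * y * g⁻¹) (g 0) = g (y 0)
    rw [Equiv.Perm.mul_apply, Equiv.Perm.mul_apply, Equiv.Perm.inv_def, Equiv.symm_apply_apply]
  have hsz : ∀ x : Fin 280, Nat.card (MulAction.orbit ↥P x) = Nat.card Δ := by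
    intro x
    obtain ⟨g, hg, rfl⟩ := reach x
    refine Nat.card_congr (Equiv.subtypeEquiv g fun b => ⟨fun hb => hmove g hg b hb, fun hb => ?_⟩).symm
    obtain ⟨⟨y, hy⟩, e⟩ := hb
    refine ⟨⟨g⁻¹ * y * g, by simpa using hn g⁻¹ (inv_mem hg) y hy⟩, ?_⟩
    show (g⁻¹ * y * g) 0 = b
    rw [Equiv.Perm.mul_apply, Equiv.Perm.mul_apply, show y (g 0) = g b from e,
      Equiv.Perm.inv_def, Equiv.symm_apply_apply]
  have hle : Nat.card Δ ≤ 8 := by
    obtain ⟨a, ha⟩ := h2.card_orbit (0 : Fin 280)
    have hdvd : Nat.card Δ ∣ 280 := by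
      have h := Nat.card_congr (MulAction.selfEquivSigmaOrbits ↥P (Fin 280))
      rw [Nat.card_fin, Nat.card_sigma] at h
      exact (Finset.dvd_sum fun ω _ => dvd_of_eq (hsz ω.out).symm).trans (dvd_of_eq h.symm)
    rw [hΔ, ha] at hdvd ⊢
    have : a ≤ 3 := by
      by_contra hc
      have h16 : 2 ^ 4 ∣ 280 := (pow_dvd_pow 2 (by omega : 4 ≤ a)).trans hdvd
      norm_num at h16
    calc 2 ^ a ≤ 2 ^ 3 := Nat.pow_le_pow_right (by norm_num) this
      _ = 8 := rfl
  obtain ⟨hw, hlen, hgrow⟩ := grow_checks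
  have hstep : ∀ j < 2, ∀ b : Fin 280, b ∈ Δ → ∃ b' : Fin 280, b' ∈ Δ ∧
      (b' : ℕ) = evW permA (stabWords.getD j []) b := by
    intro j hj b hb
    have hm : stabWords.getD j [] ∈ stabWords := by
      rw [List.getD_eq_getElem _ _ (by omega)]; exact List.getElem_mem _
    have h := List.all_eq_true.1 hw _ hm
    rw [Bool.and_eq_true] at h
    obtain ⟨g, hg, he⟩ := range_word _ h.1
    have h0 : g 0 = 0 := Fin.ext (by rw [he]; exact Nat.eq_of_beq_eq_true h.2)
    have hgb := hmove g hg b hb
    rw [h0] at hgb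
    exact ⟨g b, hgb, he b⟩
  have hall : ∀ n (l : List ℕ), (∀ y ∈ l, ∃ b : Fin 280, b ∈ Δ ∧ (b : ℕ) = y) →
      ∀ y ∈ grow n l, ∃ b : Fin 280, b ∈ Δ ∧ (b : ℕ) = y := by
    intro n
    induction n with
    | zero => exact fun l h => h
    | succ n ih =>
      intro l h
      refine ih _ fun y hy => ?_
      simp only [List.mem_eraseDups, List.mem_append, List.mem_map] at hy
      rcases hy with (hy | ⟨y0, hy0, rfl⟩) | ⟨y0, hy0, rfl⟩
      · exact h y hy
      · obtain ⟨b, hb, rfl⟩ := h y0 hy0
        exact hstep 0 (by norm_num) b hb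
      · obtain ⟨b, hb, rfl⟩ := h y0 hy0
        exact hstep 1 (by norm_num) b hb
  have hsing : ∀ b ∈ Δ, b = 0 := by
    intro b hb
    by_contra hb0
    have hg := List.all_eq_true.1 hgrow b (List.mem_range.2 b.2)
    rw [Bool.or_eq_true] at hg
    have hg' : 8 < (grow 4 [(b : ℕ)]).toFinset.card := by
      simpa using hg.resolve_left fun e => hb0 (Fin.ext (Nat.eq_of_beq_eq_true e))
    have hsub : (grow 4 [(b : ℕ)]).toFinset ⊆ Δ.toFinset.image Fin.val := by
      intro y hy
      obtain ⟨c, hc, rfl⟩ := hall 4 [(b : ℕ)] (fun y hy => ⟨b, hb, (List.mem_singleton.1 hy).symm⟩) y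
        (List.mem_toFinset.1 hy)
      exact Finset.mem_image.2 ⟨c, Set.mem_toFinset.2 hc, rfl⟩
    have h1 := (Finset.card_le_card hsub).trans Finset.card_image_le
    rw [Set.toFinset_card, ← Nat.card_eq_fintype_card] at h1
    omega
  rw [Subgroup.eq_bot_iff_forall]
  intro y hy
  refine Equiv.ext fun x => ?_
  obtain ⟨g, hg, rfl⟩ := reach x
  have h0 := hsing _ ⟨⟨g⁻¹ * y * g, by simpa using hn g⁻¹ (inv_mem hg) y hy⟩, rfl⟩
  have h1 : g⁻¹ (y (g 0)) = 0 := h0
  rw [Equiv.Perm.inv_eq_iff_eq] at h1
  exact h1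

end Cfsg.Agent.CentType.Central
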