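import Mathlib
import Cfsg.Agent.CentType.Act

/-! The orbit count bound on the centraliser, without reference to the target group. -/

set_option autoImplicit false
set_option maxRecDepth 8000

namespace Cfsg.Agent.CentType
open Cfsg Cfsg.Agent MonsterType

namespace CentData

variable {p n : ℕ} {ι : Type} [Finite ι] {W : Subgroup (Equiv.Perm ι)} (E : CentData p n ι W)

omit [Finite ι] in
theorem card_C_le_count : Nat.card ↥E.C ≤
    (Finset.univ.filter fun k : Fin n → ZMod 2 => dotL (E.repL k) (E.repL k) = 64).card *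
      (Nat.card {c : ↥golayCode // ∀ q, c.1 ((E.σ : Equiv.Perm GolayPt)⁻¹ q) = c.1 q} *
        Nat.card ↥(Subgroup.centralizer ({E.σ} : Set ↥M24))) := by
  classical
  have := Leech.finite_co0
  obtain ⟨k0, hk0⟩ := E.rep_surj (Leech.oct none) (oct_fixed_perm E.σ)
  have himg : ∀ g : ↥E.C, ∃ k, E.F k = Leech.cls ((g : ↥Co0) • Leech.oct none) ∧
      dotL (E.repL k) (E.repL k) = 64 := by
    intro g
    obtain ⟨k, hk⟩ := E.exists_img g.2 k0
    have hk' : E.F k = Leech.cls ((g : ↥Co0) • Leech.oct none) := by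
      rw [← hk]; exact MonsterType.cls_smul _ hk0
    refine ⟨k, hk', ?_⟩
    rw [← ClassData.sqNorm_rep]
    refine E.norm_of_cls le_rfl ?_ hk'
    show sqNorm _ = _
    rw [Leech.sqNorm_smul]
    exact (Leech.stdCross_mem (Leech.oct_mem_stdCross none)).2
  choose kk hk hk64 using himg
  let rp : (Fin n → ZMod 2) → ↥E.C := fun k =>
    if h : ∃ g, kk g = k then h.choose else 1
  have hrp : ∀ g, kk (rp (kk g)) = kk g := fun g => by
    simp only [rp]
    rw [dif_pos ⟨g, rfl⟩]
    exact Exists.choose_spec (p := fun g' => kk g' = kk g) ⟨g, rfl⟩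
  have hdec : ∀ g : ↥E.C, ∃ c : {c : ↥golayCode // ∀ q, c.1 ((E.σ : Equiv.Perm GolayPt)⁻¹ q) = c.1 q},
      ∃ π : ↥(Subgroup.centralizer ({E.σ} : Set ↥M24)),
      (((rp (kk g))⁻¹ * g : ↥E.C) : ↥Co0) = signHom (Multiplicative.ofAdd c.1) * permHom π.1 := by
    intro g
    set h := ((rp (kk g))⁻¹ * g : ↥E.C) with hh
    have hm : (h : ↥Co0) ∈ frameStab := by
      rw [mem_stabCls]
      have e1 := (hk g).symm.trans ((congrArg E.F (hrp g)).symm.trans (hk _))
      have e2 := MonsterType.cls_smul ((rp (kk g) : ↥Co0))⁻¹ e1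
      rw [inv_smul_smul, ← mul_smul] at e2
      exact e2
    obtain ⟨c, π, hcp⟩ := frame_decomp hm
    obtain ⟨c', hc'⟩ := perm_sign_conj E.σ c
    have hcom := E.mem_C.1 h.2
    rw [hcp] at hcom
    have e : signHom c * permHom (π * E.σ) = signHom c' * permHom (E.σ * π) := by
      rw [map_mul, map_mul, ← mul_assoc, hcom, ← mul_assoc, ← hc']
      group
    obtain ⟨e1, e2⟩ := mono_inj e
    refine ⟨⟨c.toAdd, fun q => ?_⟩, ⟨π, Subgroup.mem_centralizer_singleton_iff.2 e2⟩, hcp⟩
    subst e1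
    have h1 := congrArg (fun x : ↥Co0 => ((x • Leech.oct ((E.σ : Equiv.Perm GolayPt)⁻¹ q) : leechLattice) :
      GolayPt → ℤ) q) ((mul_inv_eq_iff_eq_mul).1 hc')
    simp only [mul_smul] at h1
    change ((Leech.permCo0 _ E.σ.2 • (Leech.signCo0 _ c.toAdd.2 • Leech.oct _) : leechLattice) :
      GolayPt → ℤ) q = ((Leech.signCo0 _ c.toAdd.2 • (Leech.permCo0 _ E.σ.2 • Leech.oct _) : leechLattice) :
      GolayPt → ℤ) q at h1
    simp only [Leech.permCo0_apply, Leech.signCo0_apply, Leech.negOn, Leech.oct, Pi.single_eq_same] at h1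
    generalize c.toAdd.1 ((E.σ : Equiv.Perm GolayPt)⁻¹ q) = u at h1 ⊢
    generalize c.toAdd.1 q = v at h1 ⊢
    have hz : ∀ x : ZMod 2, x = 0 ∨ x = 1 := by decide
    rcases hz u with rfl | rfl <;> rcases hz v with rfl | rfl <;> simp_all
  choose cc pp hcp using hdec
  let f : ↥E.C → {k : Fin n → ZMod 2 // dotL (E.repL k) (E.repL k) = 64} ×
      ({c : ↥golayCode // ∀ q, c.1 ((E.σ : Equiv.Perm GolayPt)⁻¹ q) = c.1 q} ×
        ↥(Subgroup.centralizer ({E.σ} : Set ↥M24))) :=
    fun g => (⟨kk g, hk64 g⟩, cc g, pp g)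
  have hf : Function.Injective f := by
    intro g g' h
    simp only [f, Prod.mk.injEq, Subtype.mk.injEq] at h
    obtain ⟨h1, h2, h3⟩ := h
    have : ((rp (kk g))⁻¹ * g : ↥E.C) = (rp (kk g'))⁻¹ * g' :=
      Subtype.ext (by rw [hcp g, hcp g', h2, h3])
    rw [h1] at this
    exact mul_left_cancel this
  have hle := Nat.card_le_card_of_injective f hf
  rwa [Nat.card_prod, Nat.card_prod, Nat.card_eq_fintype_card (α := {k : Fin n → ZMod 2 // _}),
    Fintype.card_subtype] at hle

theorem card_target_le : 2 * p * Nat.card ↥W ≤ Nat.card ↥E.C := by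
  classical
  have := Leech.finite_co0
  have := Fact.mk E.hp
  let i : Bool × Fin p → ↥E.action.ker := fun x =>
    ⟨⟨E.kerElem x, E.kerElem_C x, 1, E.kerElem_moves x⟩, E.action_eq _ (E.kerElem_moves x)⟩
  have hi : Function.Injective i := fun a b h =>
    E.kerElem_injective (congrArg (fun g : ↥E.action.ker => ((g : ↥E.permuting) : ↥Co0)) h)
  have hker : 2 * p ≤ Nat.card ↥E.action.ker := by
    refine le_trans (le_of_eq ?_) (Nat.card_le_card_of_injective i hi)
    simp
  have hmul := E.action.ker.card_mul_index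
  rw [Subgroup.index_ker, E.identify.2.1] at hmul
  calc 2 * p * Nat.card ↥W ≤ Nat.card ↥E.action.ker * Nat.card ↥W := Nat.mul_le_mul_right _ hker
    _ = Nat.card ↥E.permuting := hmul
    _ = Nat.card ↥E.C := by rw [E.identify.1]

end CentData

end Cfsg.Agent.CentType
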