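import Mathlib
import Cfsg.Agent.CentType.Classes
import Cfsg.Agent.Leech.LatticeModel

/-! Class data from checks on numbered representatives, for large fixed spaces: completeness of
the congruence check, incremental additivity, linear maps as tables, and sets of classes. -/

set_option autoImplicit false
set_option maxRecDepth 8000

namespace Cfsg.Agent.CentType
open Cfsg Cfsg.Agent

theorem inLB_complete {l : List ℤ} (v : leechLattice)
    (hv : Leech.toL (v : GolayPt → ℤ) = l) : inLB l = true := by
  obtain ⟨m, y, hy, hs, hc⟩ := Leech.mem_lattice_iff.1 v.2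
  have hget : ∀ p : GolayPt, l.getD (Leech.idx p) 0 = (v : GolayPt → ℤ) p := fun p => by
    rw [← hv, Leech.toL_getD _ _ (Leech.idx_lt p), Leech.ptOf_idx]
  have hget' : ∀ q < 24, l.getD q 0 = (v : GolayPt → ℤ) (Leech.ptOf q) := fun q hq => by
    rw [← hget, Leech.idx_ptOf q hq]
  set p0 := Leech.ptOf 0
  have hofL : Leech.ofL l = (v : GolayPt → ℤ) := funext fun p => hget p
  set a := l.getD 0 0 with ha
  have ha' : a = m + 2 * y p0 := (hget' 0 (by norm_num)).trans (hy _)
  set k := HeldType.maskW fun q => ((l.getD q 0 - a) / 2) % 2 == 1 with hk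
  have hw : Leech.bitWord k = Leech.red2 fun i => y i - y p0 := by
    funext p
    simp only [Leech.bitWord, hk, HeldType.testBit_maskW, Leech.idx_lt p, decide_true,
      Bool.true_and, Leech.red2, hget p]
    rw [hy p, ha', show (m + 2 * y p - (m + 2 * y p0)) / 2 = y p - y p0 by omega]
    rcases Int.emod_two_eq_zero_or_one (y p - y p0) with e | e
    · rw [if_neg (by rw [beq_iff_eq, e]; omega)]
      exact ((ZMod.intCast_zmod_eq_zero_iff_dvd _ 2).2 (Int.dvd_of_emod_eq_zero e)).symm
    · rw [if_pos (by rw [beq_iff_eq, e])]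
      rw [← ZMod.intCast_mod _ 2, show ((2 : ℕ) : ℤ) = 2 from rfl, e, Int.cast_one]
  have hmem : Leech.bitWord k ∈ golayCode := by
    rw [hw]
    have e : Leech.red2 (fun i => y i - y p0) = Leech.red2 y - (y p0 : ZMod 2) • (1 : GolayPt → ZMod 2) := by
      funext i; simp [Leech.red2]
    rw [e]
    exact sub_mem hc (Submodule.smul_mem _ _ Leech.one_mem)
  simp only [inLB, Bool.and_eq_true, List.all_eq_true, List.mem_range, beq_iff_eq]
  refine ⟨⟨fun q hq => ?_, ?_⟩, ?_⟩
  · rw [hget' q hq, hy, ← ha, ha']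
    omega
  · rw [← sum_ofL, hofL]
    omega
  · refine Nat.eq_of_testBit_eq fun i => ?_
    rw [← hk, Nat.zero_testBit, Nat.testBit_mod_two_pow, Nat.testBit_xor]
    by_cases hi : i < 24
    · have h0 := congrFun ((HeldType.bitWord_decN k).trans ((Leech.mem_iff _).1 hmem)) (Leech.ptOf i)
      simp only [Leech.bitWord, Leech.idx_ptOf i hi] at h0
      revert h0
      cases (HeldType.decN k).testBit i <;> cases k.testBit i <;> simp
    · simp [hi]

theorem congB_complete {a b : List ℤ} {v w : leechLattice}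
    (hv : Leech.toL (v : GolayPt → ℤ) = a) (hw : Leech.toL (w : GolayPt → ℤ) = b)
    (h : Leech.cls v = Leech.cls w) : congB a b = true := by
  obtain ⟨u, hu, he⟩ := Leech.cls_eq.1 h
  have hq : ∀ q < 24, a.getD q 0 - b.getD q 0 = 2 * u (Leech.ptOf q) := fun q hq => by
    rw [← hv, ← hw, Leech.toL_getD _ _ hq, Leech.toL_getD _ _ hq]
    have := congrFun he (Leech.ptOf q)
    simp only [Pi.sub_apply, Pi.smul_apply, smul_eq_mul, nsmul_eq_mul, Nat.cast_ofNat] at this
    exact this
  simp only [congB, Bool.and_eq_true, List.all_eq_true, List.mem_range, beq_iff_eq]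
  refine ⟨fun q hq' => by rw [hq q hq']; omega, inLB_complete ⟨u, hu⟩ ?_⟩
  refine List.map_congr_left fun q hq' => ?_
  rw [hq q (List.mem_range.1 hq')]
  simp

/-! ### numbers of binary vectors -/

theorem num_succ {n : ℕ} (k : Fin (n + 1) → ZMod 2) :
    num k = (k 0).val + 2 * num fun j => k j.succ := by
  unfold num
  rw [List.finRange_succ, List.foldr_cons, List.foldr_map]

theorem num_lt : ∀ {n : ℕ} (k : Fin n → ZMod 2), num k < 2 ^ n
  | 0, _ => by simp [num]
  | n + 1, k => by
    rw [num_succ, pow_succ]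
    have h1 := num_lt (fun j : Fin n => k j.succ)
    have h2 := ZMod.val_lt (k 0)
    omega

theorem testBit_num : ∀ {n : ℕ} (k : Fin n → ZMod 2) (j : Fin n),
    (num k).testBit j = decide (k j = 1)
  | n + 1, k, j => by
    rw [num_succ]
    have hz : ∀ x : ZMod 2, x.val < 2 ∧ (decide (x.val % 2 = 1) = decide (x = 1)) := by decide
    refine Fin.cases ?_ (fun i => ?_) j
    · rw [Fin.val_zero, Nat.testBit_zero, Nat.add_mul_mod_self_left]
      exact (hz _).2
    · rw [Fin.val_succ, Nat.testBit_succ, Nat.add_mul_div_left _ _ (by norm_num),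
        Nat.div_eq_of_lt (hz _).1, zero_add]
      exact testBit_num (fun j : Fin n => k j.succ) i

theorem kOf_num {n : ℕ} (k : Fin n → ZMod 2) : (kOf (num k) : Fin n → ZMod 2) = k := by
  funext j
  simp only [kOf, testBit_num]
  generalize k j = x
  revert x; decide

theorem num_kOf {n N : ℕ} (hN : N < 2 ^ n) : num (kOf N : Fin n → ZMod 2) = N := by
  refine Nat.eq_of_testBit_eq fun i => ?_
  by_cases hi : i < n
  · rw [show i = ((⟨i, hi⟩ : Fin n) : ℕ) from rfl, testBit_num, kOf]
    cases N.testBit _ <;> simp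
  · rw [Nat.testBit_lt_two_pow, Nat.testBit_lt_two_pow] <;>
      refine lt_of_lt_of_le ?_ (Nat.pow_le_pow_right (by norm_num) (not_lt.1 hi))
    exacts [hN, num_lt _]

theorem kOf_xor {n : ℕ} (a b : ℕ) : (kOf (a ^^^ b) : Fin n → ZMod 2) = kOf a + kOf b := by
  funext j
  simp only [kOf, Pi.add_apply, Nat.testBit_xor]
  cases a.testBit _ <;> cases b.testBit _ <;> decide

theorem kOf_zero {n : ℕ} : (kOf 0 : Fin n → ZMod 2) = 0 := by funext j; simp [kOf]

/-- linear combination of numbered classes -/
def xorImg (n : ℕ) (im : List ℕ) (N : ℕ) : ℕ :=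
  (List.range n).foldr (fun j s => if N.testBit j then im.getD j 0 ^^^ s else s) 0

theorem xorImg_spec {n : ℕ} (im : List ℕ) (N : ℕ) :
    (kOf (xorImg n im N) : Fin n → ZMod 2) =
      ∑ j : Fin n, (kOf N : Fin n → ZMod 2) j • (kOf (im.getD (j : ℕ) 0) : Fin n → ZMod 2) := by
  rw [Fin.sum_univ_def, xorImg, ← List.map_coe_finRange_eq_range, List.foldr_map]
  induction List.finRange n with
  | nil => simp [kOf_zero]
  | cons a t ih =>
    simp only [List.foldr_cons, List.map_cons, List.sum_cons]
    by_cases ha : N.testBit a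
    · rw [if_pos ha, kOf_xor, ih, show (kOf N : Fin n → ZMod 2) a = 1 by simp [kOf, ha], one_smul]
    · rw [if_neg ha, ih, show (kOf N : Fin n → ZMod 2) a = 0 by simp [kOf, ha], zero_smul, zero_add]

/-! ### additivity from a step check -/

/-- lists of the classes add up, checked one top bit at a time -/
def stepB (n : ℕ) (R : ℕ → List ℤ) : Bool :=
  (List.range n).all fun j => (List.range (2 ^ j)).all fun N =>
    congB (addL (R (2 ^ j)) (R N)) (R (2 ^ j + N))

theorem hadd_of_step {n : ℕ} {R : ℕ → List ℤ}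
    (hlat : ∀ N < 2 ^ n, inLB (R N) = true ∧ (R N).length = 24) (hz : R 0 = zeroL)
    (hs : stepB n R = true) (k : Fin n → ZMod 2) :
    congB (sumL ((List.finRange n).map fun i =>
      if k i = 1 then R (num (Pi.single i 1 : Fin n → ZMod 2)) else zeroL)) (R (num k)) = true := by
  classical
  let r : ℕ → leechLattice := fun N =>
    if h : N < 2 ^ n then ⟨Leech.ofL (R N), inLB_sound (hlat N h).1⟩ else 0
  have hr : ∀ N < 2 ^ n, Leech.toL (r N : GolayPt → ℤ) = R N := fun N h => by
    simp only [r, dif_pos h]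
    exact toL_ofL_eq (hlat N h).2
  have hzero : Leech.toL ((0 : leechLattice) : GolayPt → ℤ) = zeroL :=
    List.map_congr_left fun _ _ => rfl
  have h0 : Leech.cls (r 0) = 0 := by
    have : r 0 = 0 := Subtype.ext (Leech.toL_injective (by
      rw [hr 0 (by positivity), hz, hzero]))
    rw [this]; rfl
  simp only [stepB, List.all_eq_true, List.mem_range] at hs
  have key : ∀ j ≤ n, ∀ N < 2 ^ j, Leech.cls (r N) =
      ∑ i ∈ Finset.range j, if N.testBit i then Leech.cls (r (2 ^ i)) else 0 := by
    intro j hj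
    induction j with
    | zero =>
      intro N hN
      obtain rfl : N = 0 := by simpa using hN
      simpa using h0
    | succ j ih =>
      intro N hN
      have hjn : j < n := hj
      rw [Finset.sum_range_succ]
      by_cases hb : N < 2 ^ j
      · rw [Nat.testBit_lt_two_pow hb, if_neg (by simp), add_zero]
        exact ih hjn.le N hb
      · obtain ⟨M, rfl⟩ : ∃ M, N = 2 ^ j + M := ⟨N - 2 ^ j, by omega⟩
        rw [pow_succ] at hN
        have hM : M < 2 ^ j := by omega
        have hp : 2 ^ j + M < 2 ^ n := lt_of_lt_of_le (by omega : 2 ^ j + M < 2 ^ (j + 1))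
          (Nat.pow_le_pow_right (by norm_num) hjn)
        have hbit : (2 ^ j + M).testBit j = true := by
          rw [Nat.testBit_two_pow_add_eq, Nat.testBit_lt_two_pow hM]; rfl
        rw [hbit, if_pos rfl]
        have e := congB_sound (v := r (2 ^ j) + r M) (w := r (2 ^ j + M))
          (by rw [toL_add, hr _ (by omega), hr _ (by omega)]) (hr _ hp) (hs j hjn M hM)
        rw [← e, ClassData.cls_add, ih hjn.le M hM, add_comm]
        refine congrArg (· + _) (Finset.sum_congr rfl fun i hi => ?_)
        rw [Nat.testBit_two_pow_add_gt (Finset.mem_range.1 hi)]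
  have hsingle : ∀ i : Fin n, num (Pi.single i 1 : Fin n → ZMod 2) = 2 ^ (i : ℕ) := fun i => by
    conv_rhs => rw [← num_kOf (Nat.pow_lt_pow_right (by norm_num) i.2 : 2 ^ (i : ℕ) < 2 ^ n)]
    refine congrArg num (funext fun j => ?_)
    simp only [kOf, Nat.testBit_two_pow, Pi.single_apply]
    by_cases h : j = i
    · subst h; simp
    · rw [if_neg h, if_neg (by simp [Fin.val_inj, Ne.symm h])]
  refine congB_complete (v := ((List.finRange n).map fun i : Fin n =>
      if k i = 1 then r (2 ^ (i : ℕ)) else 0).sum) (w := r (num k)) ?_ (hr _ (num_lt k)) ?_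
  · rw [toL_sum, List.map_map]
    refine congrArg sumL (List.map_congr_left fun i _ => ?_)
    simp only [Function.comp, hsingle]
    split_ifs
    · exact hr _ (Nat.pow_lt_pow_right (by norm_num) i.2)
    · exact hzero
  · rw [key n le_rfl _ (num_lt k), Finset.sum_range fun i =>
      if (num k).testBit i then Leech.cls (r (2 ^ i)) else 0]
    show QuotientAddGroup.mk' Leech.twoSub _ = _
    rw [map_list_sum, List.map_map, Fin.sum_univ_def]
    refine congrArg List.sum (List.map_congr_left fun i _ => ?_)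
    simp only [Function.comp, testBit_num]
    by_cases hi : k i = 1
    · rw [if_pos hi, if_pos (by simp [hi])]; rfl
    · rw [if_neg hi, if_neg (by simp [hi])]; exact map_zero _

/-! ### sets of classes -/

/-- moving a set along a table moves its mask -/
theorem mask_moves {n : ℕ} {im l l' : List ℕ} {T U : ℕ → ℕ}
    (hT : ∀ N < 2 ^ n, xorImg n im N = T N ∧ T N < 2 ^ n ∧ U (T N) = N)
    (hl : ∀ x ∈ l, x < 2 ^ n) (h : Leech.Model.maskOfList (l.map T) = Leech.Model.maskOfList l')
    (k : Fin n → ZMod 2) :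
    (Leech.Model.maskOfList l').testBit
        (num (∑ j, k j • (kOf (im.getD (j : ℕ) 0) : Fin n → ZMod 2))) =
      (Leech.Model.maskOfList l).testBit (num k) := by
  have hk := num_lt k
  obtain ⟨h1, h2, h3⟩ := hT _ hk
  have e : num (∑ j, k j • (kOf (im.getD (j : ℕ) 0) : Fin n → ZMod 2)) = T (num k) := by
    have := xorImg_spec (n := n) im (num k)
    rw [kOf_num, h1] at this
    rw [← this, num_kOf h2]
  rw [e, ← h, Bool.eq_iff_iff, Leech.Model.testBit_maskOfList, Leech.Model.testBit_maskOfList,
    List.mem_map]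
  constructor
  · rintro ⟨x, hx, hxe⟩
    have hx' := (hT x (hl x hx)).2.2
    rw [hxe, h3] at hx'
    rwa [hx']
  · exact fun hm => ⟨_, hm, rfl⟩

theorem testBit_mask_ge {n i : ℕ} {l : List ℕ} (hl : ∀ x ∈ l, x < 2 ^ n) (hi : 2 ^ n ≤ i) :
    (Leech.Model.maskOfList l).testBit i = false := by
  by_contra h
  rw [Bool.not_eq_false, Leech.Model.testBit_maskOfList] at h
  exact absurd (hl i h) (not_lt.2 hi)

theorem mask_eq_of_bits {n : ℕ} {l l' : List ℕ} (hl : ∀ x ∈ l, x < 2 ^ n) (hl' : ∀ x ∈ l', x < 2 ^ n)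
    (h : ∀ k : Fin n → ZMod 2, (Leech.Model.maskOfList l).testBit (num k) =
      (Leech.Model.maskOfList l').testBit (num k)) :
    Leech.Model.maskOfList l = Leech.Model.maskOfList l' := by
  refine Nat.eq_of_testBit_eq fun i => ?_
  by_cases hi : i < 2 ^ n
  · have := h (kOf i)
    rwa [num_kOf hi] at this
  · rw [testBit_mask_ge hl (not_lt.1 hi), testBit_mask_ge hl' (not_lt.1 hi)]

end Cfsg.Agent.CentType
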