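import Mathlib
import Cfsg.Agent.CentType.Joint

/-! Transport between the joint centraliser in the group and in the involution centraliser. -/

set_option autoImplicit false

namespace Cfsg.Agent.CentType
open Cfsg Cfsg.Agent MonsterType

variable {G : Type*} [Group G] [Finite G] {z : G}
  {Q : Subgroup (Subgroup.centralizer ({z} : Set G))} [Q.Normal]
  {e : (Subgroup.centralizer ({z} : Set G)) ⧸ Q ≃* Spor.Co1}
  {ψ : leechLattice → Q ⧸ Subgroup.center Q}

/-- the centraliser of the pair -/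
abbrev pairC (x : Q) : Subgroup G :=
  Subgroup.centralizer ({z, ((x : Subgroup.centralizer ({z} : Set G)) : G)} : Set G)

omit [Finite G] [Q.Normal] in
theorem mem_pairC {x : Q} {g : G} : g ∈ pairC x ↔ g * z = z * g ∧
    g * ((x : Subgroup.centralizer ({z} : Set G)) : G) = ((x : Subgroup.centralizer ({z} : Set G)) : G) * g := by
  simp only [pairC, Subgroup.mem_centralizer_iff, Set.mem_insert_iff, Set.mem_singleton_iff]
  constructor
  · exact fun h => ⟨(h z (Or.inl rfl)).symm, (h _ (Or.inr rfl)).symm⟩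
  · rintro ⟨h1, h2⟩ y (rfl | rfl)
    exacts [h1.symm, h2.symm]

/-- the two forms of the joint centraliser -/
def pairEquiv (x : Q) : ↥(pairC x) ≃* ↥(jointC x) where
  toFun g := ⟨⟨g, Subgroup.mem_centralizer_singleton_iff.2 (mem_pairC.1 g.2).1⟩,
    Subgroup.mem_centralizer_singleton_iff.2 (Subtype.ext (mem_pairC.1 g.2).2)⟩
  invFun g := ⟨g.1.1, mem_pairC.2 ⟨Subgroup.mem_centralizer_singleton_iff.1 g.1.2,
    congrArg Subtype.val (Subgroup.mem_centralizer_singleton_iff.1 g.2)⟩⟩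
  left_inv _ := rfl
  right_inv _ := rfl
  map_mul' _ _ := rfl

omit [Finite G] [Q.Normal] in
theorem card_pair (x : Q) : Nat.card ↥(pairC x) = Nat.card ↥(jointC x) :=
  Nat.card_congr (pairEquiv x).toEquiv

omit [Q.Normal] in
theorem exists_generator (x : Q) (B : Subgroup G) (hB : B ≤ pairC x) {p : ℕ} [hp : Fact p.Prime]
    (hc : Nat.card B = p) :
    ∃ b : Subgroup.centralizer ({z} : Set G), orderOf b = p ∧ b ∈ jointC x ∧
      B = Subgroup.zpowers (b : G) := by
  obtain ⟨b0, hb0⟩ := exists_prime_orderOf_dvd_card' (G := B) p (hc ▸ dvd_rfl)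
  refine ⟨(pairEquiv x ⟨(b0 : G), hB b0.2⟩ : jointC x), ?_, SetLike.coe_mem _, ?_⟩
  · rw [← Subgroup.orderOf_coe]
    show orderOf (b0 : G) = p
    rw [Subgroup.orderOf_coe, hb0]
  · refine (Subgroup.eq_of_le_of_card_ge (Subgroup.zpowers_le.2 b0.2) ?_).symm
    rw [hc, Nat.card_zpowers]
    show p ≤ orderOf (b0 : G)
    rw [Subgroup.orderOf_coe, hb0]

theorem joint_card (d : Data Q e ψ) {x : Q} (hx : Typ ψ 64 x) {p : ℕ} [hp : Fact p.Prime] (hodd : p ≠ 2) :
    (Nat.card ↥(jointC x)).factorization p = (Nat.card ↥M24).factorization p := by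
  obtain ⟨e', ψ', d', hv⟩ := HeldType.exists_std64 d hx
  have hstd : StdPoint d' x := ⟨hv⟩
  obtain ⟨k, hk⟩ := IsPGroup.iff_card.1 hstd.toM24_ker
  have h := hstd.toM24.ker.card_mul_index
  rw [Subgroup.index_ker, MonoidHom.range_eq_top.2 hstd.toM24_surjective, Subgroup.card_top, hk] at h
  rw [← h, Nat.factorization_mul (by positivity) Nat.card_pos.ne']
  simp only [Finsupp.add_apply, Nat.Prime.factorization_pow Nat.prime_two]
  rw [Finsupp.single_eq_of_ne hodd, zero_add]

theorem sylCentral_of_one {x : Q} {p : ℕ} [hp : Fact p.Prime] {n : ℕ}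
    (h : (Nat.card ↥(jointC x)).factorization p = n) (hn : n = 1)
    {b : Subgroup.centralizer ({z} : Set G)} {hbx : b ∈ jointC x} (hb : orderOf b = p) :
    SylCentral p (⟨b, hbx⟩ : jointC x) := by
  refine ⟨Sylow.ofCard (Subgroup.zpowers (⟨b, hbx⟩ : jointC x)) (by
    rw [Nat.card_zpowers, Subgroup.orderOf_mk, hb, h, hn, pow_one]), Subgroup.mem_zpowers _, ?_⟩
  intro y hy
  obtain ⟨m, rfl⟩ := Subgroup.mem_zpowers_iff.1 hy
  exact ((Commute.refl _).zpow_right m).eq

omit [Finite G] [Q.Normal] in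
theorem not_sylCentral_of {x : Q} {Y : Subgroup G} {p : ℕ}
    {b : Subgroup.centralizer ({z} : Set G)} (hbx : b ∈ jointC x) (hY : Y = Subgroup.zpowers (b : G))
    (hnc : ∀ P : Sylow p ↥(pairC x), ¬ Y.subgroupOf (pairC x) ≤
      (Subgroup.center ↥(P : Subgroup ↥(pairC x))).map (P : Subgroup ↥(pairC x)).subtype) :
    ¬ SylCentral p (⟨b, hbx⟩ : jointC x) := by
  intro hc
  obtain ⟨P, hP, hcom⟩ := sylCentral_map (pairEquiv x).symm hc
  refine hnc P fun y hy => ?_
  rw [Subgroup.mem_subgroupOf, hY, Subgroup.mem_zpowers_iff] at hy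
  obtain ⟨m, hm⟩ := hy
  set b' : ↥(pairC x) := (pairEquiv x).symm ⟨b, hbx⟩ with hb'
  have he : y = b' ^ m := Subtype.ext (by rw [SubgroupClass.coe_zpow]; exact hm.symm)
  rw [he]
  refine ⟨⟨b' ^ m, zpow_mem hP m⟩, Subgroup.mem_center_iff.2 fun t => Subtype.ext ?_, rfl⟩
  exact ((show Commute b' (t : ↥(pairC x)) from hcom _ t.2).zpow_left m).eq.symm

end Cfsg.Agent.CentType
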