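import Mathlib
import Cfsg.Agent.CentType.Classes

/-! Checks on packed coordinate lists using only natural numbers, for cheap kernel evaluation. -/

set_option autoImplicit false
set_option maxRecDepth 8000

namespace Cfsg.Agent.CentType
open Cfsg Cfsg.Agent

/-- the coordinates -/
def qsL : List ℕ :=
  [0, 1, 2, 3, 4, 5, 6, 7, 8, 9, 10, 11, 12, 13, 14, 15, 16, 17, 18, 19, 20, 21, 22, 23]

theorem qsL_eq : qsL = List.range 24 := by decide

/-- biased coordinate -/
def field5 (N q : ℕ) : ℕ := N >>> (5 * q) % 32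

/-- a packed list of coordinates -/
def unpack5 (N : ℕ) : List ℤ := (List.range 24).map fun q => ((field5 N q : ℕ) : ℤ) - 16

/-- biased sum -/
def sumF (f : ℕ → ℕ) : ℕ := qsL.foldr (fun q s => f q + s) 0

/-- pivots and rows of the code -/
def pivRows : List (ℕ × ℕ) :=
  (List.finRange 12).map fun i => (Leech.idx (Leech.piv i), Leech.rowMask i)

/-- re-encoding with the given pivots -/
def decW (L : List (ℕ × ℕ)) (m : ℕ) : ℕ :=
  L.foldr (fun x s => if m.testBit x.1 then x.2 ^^^ s else s) 0

/-- their literal form -/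
def pivLitL : List (ℕ × ℕ) :=
  [(0, 13062145), (1, 4845570), (2, 9691140), (3, 7221256), (4, 14442512), (5, 15806496), (6, 11243584), (7, 2019456), (8, 4038912), (9, 8077824), (10, 16155648), (11, 10811392)]

theorem decN_eq (m : ℕ) : HeldType.decN m = decW pivRows m := by
  rw [decW, pivRows, List.foldr_map]; rfl

theorem getD_map24 (f : ℕ → ℤ) {q : ℕ} (hq : q < 24) :
    ((List.range 24).map f).getD q 0 = f q := by
  rw [List.getD_eq_getElem _ _ (by simpa using hq)]
  simp

theorem sum_map_sub (f : ℕ → ℕ) (B : ℤ) : ∀ L : List ℕ,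
    (L.map fun q => (f q : ℤ) - B).sum = ((L.foldr (fun q s => f q + s) 0 : ℕ) : ℤ) - L.length * B
  | [] => by simp
  | a :: L => by
    rw [List.map_cons, List.sum_cons, sum_map_sub f B L, List.foldr_cons, List.length_cons]
    push_cast
    ring

/-- membership in the lattice on biased coordinates, all below a multiple of four -/
def inNat (L : List (ℕ × ℕ)) (f : ℕ → ℕ) : Bool :=
  let a := f 0
  (qsL.all fun q => Nat.beq ((f q + a) % 2) 0) &&
    Nat.beq ((sumF f + 4 * a) % 8) 0 &&
    (let k := qsL.foldr (fun q m => if Nat.beq ((f q + 128 - a) / 2 % 2) 1 then m ||| 2 ^ q else m) 0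
     Nat.beq ((decW L k ^^^ k) % 2 ^ 24) 0)

theorem inLB_of_inNat {f : ℕ → ℕ} {b : ℕ} (hb : b % 2 = 0) (hf : ∀ q < 24, f q < 128)
    (h : inNat pivRows f = true) :
    inLB ((List.range 24).map fun q => (f q : ℤ) - b) = true := by
  simp only [inNat, Bool.and_eq_true, qsL_eq, List.all_eq_true, List.mem_range] at h
  obtain ⟨⟨hpar, hsum⟩, hk⟩ := h
  set l := (List.range 24).map fun q => (f q : ℤ) - b with hl
  have hget : ∀ q < 24, l.getD q 0 = (f q : ℤ) - b := fun q hq => getD_map24 _ hq
  have h0 := hget 0 (by norm_num)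
  have hk' : HeldType.maskW (fun q => ((l.getD q 0 - l.getD 0 0) / 2) % 2 == 1) =
      (List.range 24).foldr (fun q m => if Nat.beq ((f q + 128 - f 0) / 2 % 2) 1 then m ||| 2 ^ q else m) 0 := by
    refine List.foldr_ext _ _ _ fun q hq m => ?_
    have hq' := List.mem_range.1 hq
    simp only [hget q hq', h0]
    have e : (((f q : ℤ) - b - ((f 0 : ℤ) - b)) / 2 % 2 == 1) =
        Nat.beq ((f q + 128 - f 0) / 2 % 2) 1 := by
      rw [Bool.eq_iff_iff, beq_iff_eq, Nat.beq_eq]
      have := hf 0 (by norm_num)
      omega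
    rw [e]
  simp only [inLB, Bool.and_eq_true, List.all_eq_true, List.mem_range, beq_iff_eq]
  refine ⟨⟨fun q hq => ?_, ?_⟩, ?_⟩
  · rw [hget q hq, h0]
    have := Nat.eq_of_beq_eq_true (hpar q hq)
    omega
  · rw [show ((List.range 24).map fun q => l.getD q 0) = l from
      List.map_congr_left fun q hq => hget q (List.mem_range.1 hq), h0, hl, sum_map_sub,
      List.length_range]
    have := Nat.eq_of_beq_eq_true hsum
    simp only [sumF, qsL_eq] at this
    omega
  · rw [decN_eq, hk']
    exact Nat.eq_of_beq_eq_true hk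

theorem field5_lt (N q : ℕ) : field5 N q < 32 := Nat.mod_lt _ (by norm_num)

theorem inLB_unpack {N : ℕ} (h : inNat pivRows (field5 N) = true) : inLB (unpack5 N) = true :=
  inLB_of_inNat (b := 16) rfl (fun q _ => (field5_lt N q).trans (by norm_num)) h

theorem length_unpack (N : ℕ) : (unpack5 N).length = 24 := by simp [unpack5]

/-- half of the defect of additivity, biased by thirty-two -/
def halfF (a b c q : ℕ) : ℕ := (field5 a q + field5 b q + 48 - field5 c q) / 2

/-- two classes add to a third -/
def addB (L : List (ℕ × ℕ)) (a b c : ℕ) : Bool :=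
  (qsL.all fun q => Nat.beq ((field5 a q + field5 b q + field5 c q) % 2) 0) &&
    inNat L (halfF a b c)

theorem congB_of_addB {a b c : ℕ} (h : addB pivRows a b c = true) :
    congB (addL (unpack5 a) (unpack5 b)) (unpack5 c) = true := by
  simp only [addB, Bool.and_eq_true, qsL_eq, List.all_eq_true, List.mem_range] at h
  obtain ⟨hpar, hin⟩ := h
  have hd : ∀ q < 24, (addL (unpack5 a) (unpack5 b)).getD q 0 - (unpack5 c).getD q 0 =
      (field5 a q : ℤ) + field5 b q - field5 c q - 16 := fun q hq => by
    simp only [addL, unpack5, getD_map24 _ hq]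
    ring
  have key : ∀ q < 24, ((addL (unpack5 a) (unpack5 b)).getD q 0 - (unpack5 c).getD q 0) / 2 =
      (halfF a b c q : ℤ) - ((32 : ℕ) : ℤ) := fun q hq => by
    rw [hd q hq, halfF]
    have := field5_lt c q
    have := Nat.eq_of_beq_eq_true (hpar q hq)
    omega
  simp only [congB, Bool.and_eq_true, List.all_eq_true, List.mem_range, beq_iff_eq]
  refine ⟨fun q hq => ?_, ?_⟩
  · rw [hd q hq]
    have := Nat.eq_of_beq_eq_true (hpar q hq)
    omega
  · rw [List.map_congr_left fun q hq => key q (List.mem_range.1 hq)]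
    refine inLB_of_inNat rfl (fun q _ => ?_) hin
    have := field5_lt a q
    have := field5_lt b q
    rw [halfF]
    omega

/-- biased scalar product -/
def dotN (a b : ℕ) : ℕ := qsL.foldr (fun q s => field5 a q * field5 b q + s) 0

theorem dotL_unpack (a b : ℕ) : dotL (unpack5 a) (unpack5 b) =
    (dotN a b : ℤ) + 6144 - 16 * ((sumF (field5 a) + sumF (field5 b) : ℕ) : ℤ) := by
  have key : ∀ L : List ℕ, (L.map fun q => ((field5 a q : ℤ) - 16) * ((field5 b q : ℤ) - 16)).sum =
      ((L.foldr (fun q s => field5 a q * field5 b q + s) 0 : ℕ) : ℤ) + 256 * L.length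
        - 16 * (((L.foldr (fun q s => field5 a q + s) 0) + (L.foldr (fun q s => field5 b q + s) 0) : ℕ) : ℤ) := by
    intro L
    induction L with
    | nil => simp
    | cons x L ih =>
      rw [List.map_cons, List.sum_cons, ih]
      simp only [List.foldr_cons, List.length_cons]
      push_cast
      ring
  rw [dotL, List.map_congr_left (g := fun q => ((field5 a q : ℤ) - 16) * ((field5 b q : ℤ) - 16))
    fun q hq => by simp only [unpack5, getD_map24 _ (List.mem_range.1 hq)],
    key, List.length_range, dotN, sumF, sumF, qsL_eq]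
  push_cast
  ring

/-- is the scalar product this multiple of sixteen -/
def dotIs (a b v : ℕ) : Bool := Nat.beq (dotN a b + 6144) (v + 16 * (sumF (field5 a) + sumF (field5 b)))

theorem dotIs_iff (a b v : ℕ) : dotIs a b v = true ↔ dotL (unpack5 a) (unpack5 b) = (v : ℤ) := by
  rw [dotIs, Nat.beq_eq, dotL_unpack]
  omega

/-- is the scalar product not divisible by sixteen -/
def dotOdd (a b : ℕ) : Bool := !Nat.beq (dotN a b % 16) 0

theorem dotOdd_spec {a b : ℕ} (h : dotOdd a b = true) :
    ¬ (16 : ℤ) ∣ dotL (unpack5 a) (unpack5 b) := by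
  rw [dotOdd, Bool.not_eq_true'] at h
  have h' : dotN a b % 16 ≠ 0 := fun e => by rw [e] at h; exact Bool.noConfusion h
  rw [dotL_unpack]
  omega

end Cfsg.Agent.CentType
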