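import Mathlib
import Cfsg.Agent.CentType.Tools
import Cfsg.Agent.CentType.Dense
import Cfsg.Agent.CentType.Packed
import Cfsg.Agent.CentType.Count
import Cfsg.Agent.CentType.CentralModel
import Cfsg.Agent.CentType.CentralCent
import Cfsg.Agent.CentType.Joints

/-! The central element of order three: the data of its fixed classes and its centraliser. -/

set_option autoImplicit false
set_option maxRecDepth 8000
set_option Elab.async false

namespace Cfsg.Agent.CentType.Central
open Cfsg Cfsg.Agent Cfsg.Agent.CentType MonsterType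
open Cfsg.Agent.Leech.Model (pk maskOfList IsPacked noRep)

/-- code of representative number `N` -/
def codeN (N : ℕ) : ℕ := pk 120 (repsN.getD (N / 64) 0) (N % 64)

/-- representative number `N` -/
def repN (N : ℕ) : List ℤ := unpack5 (codeN N)

/-- the representatives -/
def repF (k : Fin (2 * 6) → ZMod 2) : List ℤ := repN (num k)

theorem pivLit : pivRows = pivLitL := by decide +kernel

theorem lat_raw : ((List.range 4096).all fun N => let c := codeN N
    inNat pivLitL (field5 c) &&
      (Nat.beq N 0 || dotIs c c 32 || dotIs c c 48 || dotIs c c 64)) = true := by decide +kernel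

theorem zero_check : repN 0 = zeroL ∧ dotL (repN 0) (repN 0) = 0 := by decide +kernel

theorem step_raw : ((List.range 12).all fun j => (List.range (2 ^ j)).all fun N =>
    addB pivLitL (codeN (2 ^ j)) (codeN N) (codeN (2 ^ j + N))) = true := by decide +kernel

theorem part_raw : ((List.range 4096).all fun N => Nat.beq N 0 || prefL.any fun l =>
    dotOdd (codeN N) (codeN l)) = true := by decide +kernel

theorem pref_raw : (prefL.all fun l => Nat.blt l 4096 &&
    (dotIs (codeN l) (codeN l) 32 || dotIs (codeN l) (codeN l) 64)) = true := by decide +kernel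

theorem lat_check (N : ℕ) (hN : N < 4096) : inLB (repN N) = true ∧ (repN N).length = 24 ∧
    (N = 0 ∨ dotL (repN N) (repN N) = 32 ∨ dotL (repN N) (repN N) = 48 ∨
      dotL (repN N) (repN N) = 64) := by
  have h := List.all_eq_true.1 lat_raw N (List.mem_range.2 hN)
  simp only [Bool.and_eq_true, Bool.or_eq_true, dotIs_iff] at h
  refine ⟨inLB_unpack (by rw [pivLit]; exact h.1), length_unpack _, ?_⟩
  rcases h.2 with ((e | e) | e) | e
  · exact Or.inl (Nat.eq_of_beq_eq_true e)
  · exact Or.inr (Or.inl (by simpa [repN] using e))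
  · exact Or.inr (Or.inr (Or.inl (by simpa [repN] using e)))
  · exact Or.inr (Or.inr (Or.inr (by simpa [repN] using e)))

theorem step_check : stepB 12 repN = true := by
  have h := step_raw
  simp only [stepB, List.all_eq_true, List.mem_range] at h ⊢
  exact fun j hj N hN => congB_of_addB (by rw [pivLit]; exact h j hj N hN)

theorem frames_check :
    ((List.range 4096).filter fun N => dotIs (codeN N) (codeN N) 64).length ≤ 1701 := by decide +kernel

/-- table of the action -/
def mapN (i N : ℕ) : ℕ := pk 12 (mapL.getD i 0) N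

/-- table of the inverse -/
def mapU (i N : ℕ) : ℕ := pk 12 (mapI.getD i 0) N

theorem map_check : ((List.range 2).all fun i => (List.range 4096).all fun N =>
    Nat.beq (xorImg 12 (imgL.getD i []) N) (mapN i N) && Nat.blt (mapN i N) 4096 &&
      Nat.beq (mapU i (mapN i N)) N) = true := by decide +kernel

/-- members of a set -/
def membA (j : ℕ) : List ℕ := (List.range 54).map fun s => pk 12 (famA.getD j 0) s

/-- member of a singleton -/
def membB (j : ℕ) : List ℕ := [pk 12 famB j]

/-- members -/
def memb : Fin 280 ⊕ Fin 378 → List ℕ := Sum.elim (fun j => membA j) (fun j => membB j)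

/-- all members -/
def allMemb : List (List ℕ) := (List.range 280).map membA ++ (List.range 378).map membB

theorem memb_check : (allMemb.all fun l => l.all fun x => Nat.blt x 4096) = true ∧
    noRep 0 (allMemb.map fun l => maskOfList l % sepM) = true ∧
    ((List.range 2).all fun i =>
      ((List.range 280).all fun j => Nat.beq (maskOfList ((membA j).map (mapN i)))
        (maskOfList (membA (pk 10 (permA.getD i 0) j)))) &&
      (List.range 378).all fun j => Nat.beq (maskOfList ((membB j).map (mapN i)))
        (maskOfList (membB (pk 10 (permB.getD i 0) j)))) = true := by decide +kernel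

/-- position in the list of all members -/
def pos : Fin 280 ⊕ Fin 378 → ℕ := Sum.elim (fun j => j) (fun j => 280 + j)

theorem pos_lt (a : Fin 280 ⊕ Fin 378) : pos a < 658 := by
  rcases a with j | j <;> simp [pos] <;> omega

theorem pos_injective : Function.Injective pos := by
  rintro (i | i) (j | j) h <;> simp [pos] at h ⊢ <;> omega

theorem allMemb_get (a : Fin 280 ⊕ Fin 378) : allMemb.getD (pos a) [] = memb a := by
  rcases a with j | j
  · show ((List.range 280).map membA ++ _).getD (j : ℕ) [] = membA j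
    rw [List.getD_append _ _ _ _ (by simp), List.getD_eq_getElem _ _ (by simp)]
    simp
  · show ((List.range 280).map membA ++ _).getD (280 + (j : ℕ)) [] = membB j
    rw [List.getD_append_right _ _ _ _ (by simp), List.getD_eq_getElem _ _ (by simp)]
    simp

theorem memb_lt (a : Fin 280 ⊕ Fin 378) : ∀ x ∈ memb a, x < 2 ^ 12 := by
  intro x hx
  have h := List.all_eq_true.1 memb_check.1 (memb a) (by
    rw [← allMemb_get a, List.getD_eq_getElem _ _ (by simpa [allMemb] using pos_lt a)]
    exact List.getElem_mem _)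
  simpa using List.all_eq_true.1 h x hx

theorem mapN_facts (i : Fin 2) : ∀ N < 2 ^ 12, xorImg 12 (imgL.getD (i : ℕ) []) N = mapN i N ∧
    mapN i N < 2 ^ 12 ∧ mapU i (mapN i N) = N := by
  intro N hN
  have h := List.all_eq_true.1 (List.all_eq_true.1 map_check (i : ℕ) (List.mem_range.2 i.2)) N
    (List.mem_range.2 hN)
  simp only [Bool.and_eq_true] at h
  exact ⟨Nat.eq_of_beq_eq_true h.1.1, by simpa using h.1.2, Nat.eq_of_beq_eq_true h.2⟩

theorem obj_moves (i : Fin 2) (a : Fin 280 ⊕ Fin 378) (k : Fin (2 * 6) → ZMod 2) :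
    (maskOfList (memb (tau i a))).testBit
        (num (∑ j, k j • (kOf ((imgL.getD (i : ℕ) []).getD (j : ℕ) 0) : Fin (2 * 6) → ZMod 2))) =
      (maskOfList (memb a)).testBit (num k) := by
  refine mask_moves (T := mapN i) (U := mapU i) (mapN_facts i) (memb_lt a) ?_ k
  have h := List.all_eq_true.1 memb_check.2.2 (i : ℕ) (List.mem_range.2 i.2)
  rw [Bool.and_eq_true] at h
  rcases a with j | j
  · have e : tau i (Sum.inl j) = Sum.inl (tauA i j) := rfl
    rw [e]
    show maskOfList ((membA j).map (mapN i)) = maskOfList (membA (tauA i j : ℕ))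
    rw [tauA_spec]
    exact Nat.eq_of_beq_eq_true (List.all_eq_true.1 h.1 _ (List.mem_range.2 j.2))
  · have e : tau i (Sum.inr j) = Sum.inr (tauB i j) := rfl
    rw [e]
    show maskOfList ((membB j).map (mapN i)) = maskOfList (membB (tauB i j : ℕ))
    rw [tauB_spec]
    exact Nat.eq_of_beq_eq_true (List.all_eq_true.1 h.2 _ (List.mem_range.2 j.2))

theorem obj_inj (a b : Fin 280 ⊕ Fin 378) (h : ∀ k : Fin (2 * 6) → ZMod 2,
    (maskOfList (memb a)).testBit (num k) = (maskOfList (memb b)).testBit (num k)) : a = b := by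
  have e := mask_eq_of_bits (memb_lt a) (memb_lt b) h
  refine pos_injective ?_
  have hlen : (allMemb.map fun l => maskOfList l % sepM).length = 658 := by simp [allMemb]
  refine (List.Nodup.getElem_inj_iff (Leech.Model.noRep_spec _ 0 memb_check.2.1).1
    (hi := hlen ▸ pos_lt a) (hj := hlen ▸ pos_lt b)).1 ?_
  simp only [List.getElem_map]
  rw [← List.getD_eq_getElem allMemb [], ← List.getD_eq_getElem allMemb [], allMemb_get, allMemb_get, e]

theorem sigma_pow : sigM ^ 3 = 1 := Subtype.ext (Equiv.ext (show ∀ q, (sig ^ 3) q = q by decide +kernel))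

theorem sigma_ne : sigM ≠ 1 := fun h => by
  have := congrArg (fun s : ↥M24 => (s : Equiv.Perm GolayPt) (Leech.ptOf 1)) h
  revert this
  show sig (Leech.ptOf 1) = Leech.ptOf 1 → False
  decide +kernel

theorem frames_count :
    (Finset.univ.filter fun k : Fin (2 * 6) → ZMod 2 => dotL (repF k) (repF k) = 64).card ≤ 1701 := by
  classical
  refine le_trans ?_ ((List.toFinset_card_le _).trans frames_check)
  refine Finset.card_le_card_of_injOn num (fun k hk => ?_) fun a _ b _ e => ?_
  · rw [Finset.mem_coe, List.mem_toFinset, List.mem_filter, List.mem_range]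
    exact ⟨num_lt k, (dotIs_iff _ _ _).2 (by simpa [repF, repN] using (Finset.mem_filter.1 hk).2)⟩
  · rw [← kOf_num a, ← kOf_num b, e]

theorem fixed_count : ((List.finRange 4096).filter fun (m : Fin 4096) => (List.range 24).all fun q =>
    (Leech.maskOf m).testBit (sigP.getD q 0) == (Leech.maskOf m).testBit q).length ≤ 64 := by decide +kernel

theorem rep_ok (k : Fin (2 * 6) → ZMod 2) : (inLB (repF k) && ((repF k).length == 24) &&
    (decide (k = 0) || (dotL (repF k) (repF k) == 32) ||
      (dotL (repF k) (repF k) == 48) || (dotL (repF k) (repF k) == 64))) = true := by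
  obtain ⟨h1, h2, h3⟩ := lat_check (num k) (num_lt k)
  simp only [Bool.and_eq_true, Bool.or_eq_true, decide_eq_true_eq, beq_iff_eq]
  refine ⟨⟨h1, h2⟩, ?_⟩
  rcases h3 with h3 | h3 | h3 | h3
  · exact Or.inl (Or.inl (Or.inl (by rw [← kOf_num k, h3]; exact kOf_zero)))
  · exact Or.inl (Or.inl (Or.inr h3))
  · exact Or.inl (Or.inr h3)
  · exact Or.inr h3

theorem num_zero : num (0 : Fin (2 * 6) → ZMod 2) = 0 := by decide +kernel

theorem add_ok (k : Fin (2 * 6) → ZMod 2) : congB (sumL ((List.finRange (2 * 6)).map fun i =>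
    if k i = 1 then repF (Pi.single i 1) else zeroL)) (repF k) = true :=
  hadd_of_step (n := 2 * 6) (fun N hN => ⟨(lat_check N hN).1, (lat_check N hN).2.1⟩) zero_check.1 step_check k

theorem part_ok (k : Fin (2 * 6) → ZMod 2) (hk : k ≠ 0) :
    ∃ l, (dotL (repF l) (repF l) = 32 ∨ dotL (repF l) (repF l) = 64) ∧
      ¬ (16 : ℤ) ∣ dotL (repF k) (repF l) := by
  have h := List.all_eq_true.1 part_raw (num k) (List.mem_range.2 (num_lt k))
  rw [Bool.or_eq_true] at h
  obtain ⟨l, hlm, hl⟩ := List.any_eq_true.1 (h.resolve_left fun e => hk (by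
    rw [← kOf_num k, Nat.eq_of_beq_eq_true e]; exact kOf_zero))
  have h2 := List.all_eq_true.1 pref_raw l hlm
  simp only [Bool.and_eq_true, Bool.or_eq_true, Nat.blt_eq, dotIs_iff] at h2
  refine ⟨kOf l, ?_, ?_⟩
  · rw [repF, num_kOf h2.1]; simpa [repN] using h2.2
  · rw [repF, repF, num_kOf h2.1]
    exact dotOdd_spec hl

theorem bound_mul (A B C : ℕ) (hA : A ≤ 1701) (hB : B ≤ 64) (hC : C ≤ 1080) :
    A * (B * C) ≤ 117573120 :=
  (Nat.mul_le_mul hA (Nat.mul_le_mul hB hC)).trans (by norm_num)

theorem hbound_of (A B C : ℕ) (hA : A ≤ 1701) (hB : B ≤ 64) (hC : C ≤ 1080) :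
    A * (B * C) ≤ 2 * 3 * Nat.card ↥W := by
  have := bound_mul A B C hA hB hC
  have := W_card_ge
  omega

/-- the representatives as a sealed value: `Classical.choice` stops evaluation -/
noncomputable def repS : {R : (Fin (2 * 6) → ZMod 2) → List ℤ // R = repF} :=
  Classical.choice ⟨⟨repF, rfl⟩⟩

/-- the representatives, not evaluated -/
noncomputable def repG : (Fin (2 * 6) → ZMod 2) → List ℤ := repS.1

theorem repG_eq : repG = repF := repS.2

theorem frames_countG :
    (Finset.univ.filter fun k : Fin (2 * 6) → ZMod 2 => dotL (repG k) (repG k) = 64).card ≤ 1701 := by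
  rw [repG_eq]; exact frames_count

theorem fix_okF : ∀ i : Fin (2 * 6),
    congB (permL sigP (repF (Pi.single i 1))) (repF (Pi.single i 1)) = true := by decide +kernel

theorem avg_okF : ∀ j : Fin genV.length,
    congB (orbL sigP 3 genV[j]) (repF (kOf (avgL.getD j 0))) = true := by decide +kernel

/-- the generators -/
def genL : Fin 2 → Leech.LGen := fun i => if i = 0 then gen0 else gen1

theorem img_okF : ∀ (i : Fin 2) (j : Fin (2 * 6)), congB ((genL i).f (repF (Pi.single j 1)))
    (repF (kOf ((imgL.getD (i : ℕ) []).getD (j : ℕ) 0))) = true := by decide +kernel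

/-- the data -/
noncomputable def data : CentData 3 (2 * 6) (Fin 280 ⊕ Fin 378) W where
  σ := sigM
  P := sigP
  hσ := sigma_pow
  hodd := ⟨1, rfl⟩
  hP := sig_idx
  repL := repG
  avg := avgL
  hrep := by rw [repG_eq]; exact rep_ok
  hzero := by rw [repG_eq, repF, num_zero]; exact zero_check.2
  hadd := by rw [repG_eq]; exact add_ok
  hfix := by rw [repG_eq]; exact fix_okF
  havg := by rw [repG_eq]; exact avg_okF
  hpart := by rw [repG_eq]; exact part_ok
  hp := by norm_num
  hne := sigma_ne
  gen := genL
  hcomm := by decide +kernel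
  img := fun i => imgL.getD (i : ℕ) []
  himg := by rw [repG_eq]; exact img_okF
  obj := fun a => maskOfList (memb a)
  hobj := obj_inj
  tau := tau
  htau := obj_moves
  hgen := W_le
  hbound := hbound_of _ _ _ frames_countG (card_fixed_le sig_idx fixed_count) card_cent

theorem W_card : Nat.card ↥W = 19595520 := by
  refine le_antisymm ?_ W_card_ge
  have h := data.card_target_le.trans (data.card_C_le_count.trans
    (bound_mul _ _ _ frames_countG (card_fixed_le sig_idx fixed_count) card_cent))
  omega

theorem ker_card : Nat.card ↥piA.ker = 3 := by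
  have h := piA.ker.card_mul_index
  rw [Subgroup.index_ker, range_card, W_card] at h
  exact Nat.eq_of_mul_eq_mul_right (m := 6531840) (by norm_num) (h.trans (by norm_num))

theorem two_conj : twoM * sigM * twoM⁻¹ = sigM ^ 2 := by
  rw [mul_inv_eq_iff_eq_mul]
  exact Subtype.ext (Equiv.ext (show ∀ q, (two * sig) q = (sig ^ 2 * two) q by decide +kernel))

/-- the setting -/
noncomputable def setting : Setting 3 6 ↥W :=
  data.setting True (fun y hy h => sel y hy (h.2 trivial))
    (inducing_of_two sigma_pow two_conj (by decide) (by norm_num))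

theorem two_bot : ∀ N : Subgroup ↥W, N.Normal → IsPGroup 2 ↥N → N = ⊥ := by
  intro N hN h2
  have hmap : N.map piA = ⊥ := by
    refine range_no_two _ (Subgroup.map_le_range _ _) ?_ (h2.map piA)
    rintro _ ⟨g, rfl⟩ _ ⟨y, hy, rfl⟩
    exact ⟨g * y * g⁻¹, hN.conj_mem y hy g, by rw [map_mul, map_mul, map_inv]⟩
  have hle : N ≤ piA.ker := (Subgroup.map_eq_bot_iff N).1 hmap
  have hd := Subgroup.card_dvd_of_le hle
  rw [ker_card] at hd
  have : Fact (Nat.Prime 2) := ⟨Nat.prime_two⟩
  obtain ⟨a, ha⟩ := IsPGroup.iff_card.1 h2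
  rw [ha] at hd
  refine Subgroup.eq_bot_of_card_eq _ ?_
  rcases a with - | a
  · rw [ha, pow_zero]
  · have : 2 ∣ 3 := (dvd_pow_self 2 (Nat.succ_ne_zero a)).trans hd
    omega

/-- the pieces of the target -/
theorem target_pieces {C : Type*} [Group C] [Finite C] (R : Subgroup C) [R.Normal] (e : C ⧸ R ≃* ↥W) :
    ∃ (N M : Subgroup C) (_ : N.Normal) (_ : M.Normal),
      R ≤ N ∧ N ≤ M ∧ Nat.card N = 3 * Nat.card R ∧
      (∃ (K : Type) (_ : Field K) (_ : Fintype K), Fintype.card K = 9 ∧
        Nonempty (M ⧸ N.subgroupOf M ≃* PSU 4 K 3)) ∧ M.index = 2 := by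
  set g : C →* ↥W := e.toMonoidHom.comp (QuotientGroup.mk' R) with hg
  have hgs : Function.Surjective g := e.surjective.comp (QuotientGroup.mk'_surjective R)
  set f : C →* Equiv.Perm (Fin 280) := piA.comp g with hf
  have hgk : g.ker = R := by
    ext y
    rw [MonoidHom.mem_ker, hg]
    show e (QuotientGroup.mk y) = 1 ↔ _
    rw [map_eq_one_iff e e.injective, QuotientGroup.eq_one_iff]
  have hrange : f.range = piA.range := by
    rw [hf, MonoidHom.range_comp, MonoidHom.range_eq_top.2 hgs, ← MonoidHom.range_eq_map]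
  have hMn : (mG.comap f).Normal := by
    refine ⟨fun y hy c => ?_⟩
    rw [Subgroup.mem_comap] at hy ⊢
    rw [map_mul, map_mul, map_inv]
    have hc : f c ∈ piA.range := hrange ▸ ⟨c, rfl⟩
    exact (Subgroup.mem_normalizer_iff.1 (range_le_normalizer hc) _).1 hy
  refine ⟨f.ker, mG.comap f, inferInstance, hMn, ?_, ?_, ?_, ?_, ?_⟩
  · rw [← hgk, hf]
    intro y hy
    rw [MonoidHom.mem_ker] at hy ⊢
    rw [MonoidHom.comp_apply, hy, map_one]
  · intro y hy
    rw [Subgroup.mem_comap, MonoidHom.mem_ker.1 hy]
    exact one_mem _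
  · have h1 := f.ker.card_mul_index
    rw [Subgroup.index_ker, hrange, range_card] at h1
    have h2 := R.card_mul_index
    rw [Subgroup.index_eq_card, Nat.card_congr e.toEquiv, W_card] at h2
    omega
  · obtain ⟨e9⟩ := model_equiv
    refine ⟨F9, inferInstance, inferInstance, card_F9, ⟨?_⟩⟩
    let r : ↥(mG.comap f) →* ↥mG := f.subgroupComap mG
    have hr : Function.Surjective r := by
      rintro ⟨x, hx⟩
      obtain ⟨c, rfl⟩ : x ∈ f.range := hrange ▸ mG_le hx
      exact ⟨⟨c, hx⟩, rfl⟩
    have hk : f.ker.subgroupOf (mG.comap f) = r.ker := by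
      ext ⟨c, hc⟩
      simp only [Subgroup.mem_subgroupOf, MonoidHom.mem_ker, r]
      exact ⟨fun h => Subtype.ext h, fun h => congrArg Subtype.val h⟩
    exact (QuotientGroup.quotientMulEquivOfEq hk).trans
      ((QuotientGroup.quotientKerEquivOfSurjective r hr).trans e9.symm)
  · rw [Subgroup.index_comap, hrange]
    exact mG_relIndex

end Cfsg.Agent.CentType.Central

namespace Cfsg.Agent.CentType
open Cfsg Cfsg.Agent MonsterType

variable {G : Type*} [Group G] [Finite G] {z : G}
  {Q : Subgroup (Subgroup.centralizer ({z} : Set G))}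

omit [Finite G] in
theorem sylCentral_of {x : Q} {Y : Subgroup G} {p : ℕ}
    {b : Subgroup.centralizer ({z} : Set G)} (hbx : b ∈ jointC x) (hY : Y = Subgroup.zpowers (b : G))
    (P : Sylow p ↥(pairC x)) (hc : Y.subgroupOf (pairC x) ≤
      (Subgroup.center ↥(P : Subgroup ↥(pairC x))).map (P : Subgroup ↥(pairC x)).subtype) :
    SylCentral p (⟨b, hbx⟩ : jointC x) := by
  set b' : ↥(pairC x) := (pairEquiv x).symm ⟨b, hbx⟩ with hb'
  have hmem : b' ∈ Y.subgroupOf (pairC x) := by
    rw [Subgroup.mem_subgroupOf, hY]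
    exact Subgroup.mem_zpowers _
  obtain ⟨c, hc1, hc2⟩ := hc hmem
  have h : SylCentral p b' := by
    refine ⟨P, hc2 ▸ c.2, fun t ht => ?_⟩
    have := congrArg Subtype.val ((Subgroup.mem_center_iff.1 hc1) ⟨t, ht⟩)
    rw [← hc2]
    exact this.symm
  have := sylCentral_map (pairEquiv x) h
  rwa [hb', MulEquiv.apply_symm_apply] at this

end Cfsg.Agent.CentType
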