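import Mathlib
import Cfsg.Agent.CentType.Tools

/-! The wreath product of the alternating group of degree five by two. -/

set_option autoImplicit false
set_option maxRecDepth 8000

namespace Cfsg.Agent.CentType.Five
open Cfsg Cfsg.Agent Cfsg.Agent.CentType MonsterType

/-- the base of the wreath product -/
noncomputable def base : ↥(alternatingGroup (Fin 5)) × ↥(alternatingGroup (Fin 5)) →* ↥alternatingFiveWreathTwo :=
  ((Equiv.Perm.sumCongrHom (Fin 5) (Fin 5)).comp
    ((alternatingGroup (Fin 5)).subtype.prodMap (alternatingGroup (Fin 5)).subtype)).codRestrict _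
    fun x => Subgroup.subset_closure (Or.inl ⟨x.1, x.2, rfl⟩)

theorem base_injective : Function.Injective base := by
  intro a b h
  have h' := congrArg Subtype.val h
  have h'' := Equiv.Perm.sumCongrHom_injective
    (show Equiv.Perm.sumCongrHom (Fin 5) (Fin 5) ((a.1 : Equiv.Perm (Fin 5)), (a.2 : Equiv.Perm (Fin 5))) =
      Equiv.Perm.sumCongrHom (Fin 5) (Fin 5) ((b.1 : Equiv.Perm (Fin 5)), (b.2 : Equiv.Perm (Fin 5))) from h')
  exact Prod.ext (Subtype.ext (congrArg Prod.fst h'')) (Subtype.ext (congrArg Prod.snd h''))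

theorem card_ge : 7200 ≤ Nat.card ↥alternatingFiveWreathTwo := by
  classical
  let sw : ↥alternatingFiveWreathTwo := ⟨Equiv.sumComm (Fin 5) (Fin 5), Subgroup.subset_closure (Or.inr rfl)⟩
  let f : Bool × (↥(alternatingGroup (Fin 5)) × ↥(alternatingGroup (Fin 5))) → ↥alternatingFiveWreathTwo :=
    fun x => (if x.1 then sw else 1) * base x.2
  have hside : ∀ x, ((base x : ↥alternatingFiveWreathTwo) : Equiv.Perm (Fin 5 ⊕ Fin 5)) (Sum.inl 0) =
      Sum.inl ((x.1 : Equiv.Perm (Fin 5)) 0) := fun x => rfl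
  have hf : Function.Injective f := by
    rintro ⟨a, x⟩ ⟨b, y⟩ h
    have h' := congrArg (fun g : ↥alternatingFiveWreathTwo => (g : Equiv.Perm (Fin 5 ⊕ Fin 5)) (Sum.inl 0)) h
    have hab : a = b := by
      cases a <;> cases b <;> simp [f, sw, hside] at h' ⊢
    subst hab
    exact Prod.ext rfl (base_injective (mul_left_cancel h))
  refine le_trans (le_of_eq ?_) (Nat.card_le_card_of_injective f hf)
  have h60 : Nat.card ↥(alternatingGroup (Fin 5)) = 60 := by
    have := two_mul_nat_card_alternatingGroup (α := Fin 5)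
    rw [Nat.card_perm, Nat.card_fin] at this
    norm_num [Nat.factorial] at this ⊢
    omega
  rw [Nat.card_prod, Nat.card_prod, h60, Nat.card_eq_fintype_card, Fintype.card_bool]

/-- the wreath product has no nilpotent normal subgroup but the trivial one -/
theorem nil_bot : ∀ N : Subgroup ↥alternatingFiveWreathTwo, N.Normal → Group.IsNilpotent ↥N → N = ⊥ := by
  intro N hN hnil
  have hA : IsSimpleGroup ↥(alternatingGroup (Fin 5)) := alternatingGroup.isSimpleGroup (by simp)
  have hAn : ¬ Group.IsNilpotent ↥(alternatingGroup (Fin 5)) := fun h => by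
    have hne := Group.IsNilpotent.center_ne_bot ↥(alternatingGroup (Fin 5))
    rw [alternatingGroup.center_eq_bot (by simp)] at hne
    exact hne rfl
  -- trivial on the base
  set M := N.comap base with hM
  have hMn : M.Normal := hN.comap base
  have hMnil : Group.IsNilpotent ↥M := by
    refine Group.nilpotent_of_surjective (Subgroup.equivMapOfInjective M base base_injective).symm.toMonoidHom
      (MulEquiv.surjective _) (h := ?_)
    exact (Group.isNilpotent_congr (Subgroup.subgroupOfEquivOfLe (Subgroup.map_comap_le base N))).1 inferInstance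
  have hproj : ∀ f : ↥(alternatingGroup (Fin 5)) × ↥(alternatingGroup (Fin 5)) →* ↥(alternatingGroup (Fin 5)),
      Function.Surjective f → M.map f = ⊥ := fun f hf =>
    nil_bot_of_simple hAn _ (hMn.map f hf)
      (Group.nilpotent_of_surjective (f.subgroupMap M) (MonoidHom.subgroupMap_surjective f _))
  have h1 := hproj (MonoidHom.fst _ _) (fun a => ⟨(a, 1), rfl⟩)
  have h2 := hproj (MonoidHom.snd _ _) (fun a => ⟨(1, a), rfl⟩)
  have hMb : ∀ x ∈ M, x = 1 := fun x hx =>
    Prod.ext (Subgroup.mem_bot.1 (h1 ▸ Subgroup.mem_map_of_mem (MonoidHom.fst _ _) hx : x.1 ∈ _))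
      (Subgroup.mem_bot.1 (h2 ▸ Subgroup.mem_map_of_mem (MonoidHom.snd _ _) hx : x.2 ∈ _))
  -- hence centralising it
  have hswapmem : ∀ (w : ↥alternatingFiveWreathTwo) x, ∃ y, w * base x * w⁻¹ = base y := by
    intro w
    have hw := w.2
    suffices ∀ (g : Equiv.Perm (Fin 5 ⊕ Fin 5)), g ∈ alternatingFiveWreathTwo →
        ∀ σ τ : ↥(alternatingGroup (Fin 5)), ∃ σ' τ' : ↥(alternatingGroup (Fin 5)),
          g * Equiv.Perm.sumCongr (σ : Equiv.Perm (Fin 5)) τ * g⁻¹ =
            Equiv.Perm.sumCongr (σ' : Equiv.Perm (Fin 5)) τ' by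
      intro x
      obtain ⟨a, b, hab⟩ := this _ hw x.1 x.2
      exact ⟨(a, b), Subtype.ext hab⟩
    intro g hg
    induction hg using Subgroup.closure_induction with
    | mem g hg =>
      rcases hg with ⟨a, b, rfl⟩ | hg
      · intro σ τ
        exact ⟨a * σ * a⁻¹, b * τ * b⁻¹, by
          rw [Equiv.Perm.sumCongr_mul, Equiv.Perm.sumCongr_inv, Equiv.Perm.sumCongr_mul]; rfl⟩
      · intro σ τ
        refine ⟨τ, σ, ?_⟩
        rw [Set.mem_singleton_iff.1 hg, mul_inv_eq_iff_eq_mul]
        refine Equiv.ext fun t => ?_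
        rcases t with t | t <;> rfl
    | one => intro σ τ; exact ⟨σ, τ, by simp⟩
    | mul g h _ _ hg' hh' =>
      intro σ τ
      obtain ⟨a, b, hab⟩ := hh' σ τ
      obtain ⟨c, d, hcd⟩ := hg' a b
      exact ⟨c, d, by rw [← hcd, ← hab]; group⟩
    | inv g _ hg' =>
      -- conjugation is a bijection of the finite base
      intro σ τ
      let φ : ↥(alternatingGroup (Fin 5)) × ↥(alternatingGroup (Fin 5)) →
          ↥(alternatingGroup (Fin 5)) × ↥(alternatingGroup (Fin 5)) :=
        fun x => ((hg' x.1 x.2).choose, (hg' x.1 x.2).choose_spec.choose)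
      have hφ : Function.Injective φ := by
        intro x y hxy
        have ex := (hg' x.1 x.2).choose_spec.choose_spec
        have ey := (hg' y.1 y.2).choose_spec.choose_spec
        obtain ⟨e1, e2⟩ := Prod.ext_iff.1 hxy
        simp only [φ] at e1 e2
        replace ex := ex.trans (congrArg₂ (fun u v : ↥(alternatingGroup (Fin 5)) =>
          Equiv.Perm.sumCongr (u : Equiv.Perm (Fin 5)) (v : Equiv.Perm (Fin 5))) e1 e2)
        rw [← ey, mul_left_inj, mul_right_inj] at ex
        exact base_injective (Subtype.ext ex)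
      obtain ⟨⟨a, b⟩, hab⟩ := (Finite.injective_iff_surjective.1 hφ) (σ, τ)
      refine ⟨a, b, ?_⟩
      have ex := (hg' a b).choose_spec.choose_spec
      obtain ⟨e1, e2⟩ := Prod.ext_iff.1 hab
      simp only [φ] at e1 e2
      replace ex := ex.trans (congrArg₂ (fun u v : ↥(alternatingGroup (Fin 5)) =>
        Equiv.Perm.sumCongr (u : Equiv.Perm (Fin 5)) (v : Equiv.Perm (Fin 5))) e1 e2)
      rw [← ex]
      group
  have hcomm : ∀ nn ∈ N, ∀ x, nn * base x = base x * nn := by
    intro nn hnn x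
    obtain ⟨y, hy⟩ := hswapmem nn x
    have hk : y * x⁻¹ ∈ M := by
      show base (y * x⁻¹) ∈ N
      rw [map_mul, map_inv, ← hy, mul_assoc, mul_assoc]
      exact N.mul_mem hnn (by rw [← mul_assoc]; exact hN.conj_mem _ (N.inv_mem hnn) _)
    rw [mul_inv_eq_one.1 (hMb _ hk)] at hy
    exact mul_inv_eq_iff_eq_mul.1 hy
  refine (Subgroup.eq_bot_iff_forall _).2 fun nn hnn => ?_
  set g : Equiv.Perm (Fin 5 ⊕ Fin 5) := nn.1 with hg
  have hc : ∀ a b : ↥(alternatingGroup (Fin 5)), ∀ t,
      g (Equiv.Perm.sumCongr (a : Equiv.Perm (Fin 5)) b t) =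
        Equiv.Perm.sumCongr (a : Equiv.Perm (Fin 5)) b (g t) := fun a b t =>
    congrArg (fun f : ↥alternatingFiveWreathTwo => (f : Equiv.Perm (Fin 5 ⊕ Fin 5)) t) (hcomm nn hnn (a, b))
  let A1 : ↥(alternatingGroup (Fin 5)) := ⟨Equiv.swap 0 1 * Equiv.swap 1 2, Equiv.Perm.mem_alternatingGroup.2 (by decide +kernel)⟩
  let A2 : ↥(alternatingGroup (Fin 5)) := ⟨Equiv.swap 2 3 * Equiv.swap 3 4, Equiv.Perm.mem_alternatingGroup.2 (by decide +kernel)⟩
  have key : ∀ y : Fin 5 ⊕ Fin 5, Equiv.Perm.sumCongr (A1 : Equiv.Perm (Fin 5)) (1 : Equiv.Perm (Fin 5)) y ≠ y →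
      Equiv.Perm.sumCongr (A2 : Equiv.Perm (Fin 5)) (1 : Equiv.Perm (Fin 5)) y ≠ y → y = Sum.inl 2 := by
    decide +kernel
  have key' : ∀ y : Fin 5 ⊕ Fin 5, Equiv.Perm.sumCongr (1 : Equiv.Perm (Fin 5)) (A1 : Equiv.Perm (Fin 5)) y ≠ y →
      Equiv.Perm.sumCongr (1 : Equiv.Perm (Fin 5)) (A2 : Equiv.Perm (Fin 5)) y ≠ y → y = Sum.inr 2 := by
    decide +kernel
  have hl2 : g (Sum.inl 2) = Sum.inl 2 := key _
    (fun e => absurd (g.injective ((hc A1 1 (Sum.inl 2)).trans e)) (by decide +kernel))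
    (fun e => absurd (g.injective ((hc A2 1 (Sum.inl 2)).trans e)) (by decide +kernel))
  have hr2 : g (Sum.inr 2) = Sum.inr 2 := key' _
    (fun e => absurd (g.injective ((hc 1 A1 (Sum.inr 2)).trans e)) (by decide +kernel))
    (fun e => absurd (g.injective ((hc 1 A2 (Sum.inr 2)).trans e)) (by decide +kernel))
  have hall : ∀ i : Fin 5, ∃ a : ↥(alternatingGroup (Fin 5)), (a : Equiv.Perm (Fin 5)) 2 = i := by
    intro i
    have h : ∀ i : Fin 5, ∃ f : Equiv.Perm (Fin 5), Equiv.Perm.sign f = 1 ∧ f 2 = i := by decide +kernel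
    obtain ⟨f, hf, hfi⟩ := h i
    exact ⟨⟨f, Equiv.Perm.mem_alternatingGroup.2 hf⟩, hfi⟩
  refine Subtype.ext (Equiv.ext fun t => ?_)
  rcases t with i | i
  · obtain ⟨a, rfl⟩ := hall i
    exact (hc a 1 (Sum.inl 2)).trans (congrArg _ hl2)
  · obtain ⟨a, rfl⟩ := hall i
    exact (hc 1 a (Sum.inr 2)).trans (congrArg _ hr2)

end Cfsg.Agent.CentType.Five
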