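import Mathlib
import Cfsg.Agent.CentType.Tools
import Cfsg.Agent.CentType.FiveData
import Cfsg.Agent.CentType.WreathFive
import Cfsg.Agent.CentType.CodeTools

/-! The element of order five: its centraliser modulo itself is the wreath product. -/

set_option autoImplicit false
set_option maxRecDepth 8000

namespace Cfsg.Agent.CentType.Five
open Cfsg Cfsg.Agent Cfsg.Agent.CentType MonsterType

/-- positions of the ten symbols -/
def pos : Fin 5 ⊕ Fin 5 → ℕ := Sum.elim (fun i => i.val) (fun i => 5 + i.val)

/-- the symbol at a position -/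
def sym (j : ℕ) : Fin 5 ⊕ Fin 5 := if j < 5 then Sum.inl (Fin.ofNat 5 j) else Sum.inr (Fin.ofNat 5 (j - 5))

/-- the permutations of the family -/
def tau (i : Fin 2) : Equiv.Perm (Fin 5 ⊕ Fin 5) where
  toFun a := sym ((tauL.getD (i : ℕ) []).getD (pos a) 0)
  invFun a := sym ((tauI.getD (i : ℕ) []).getD (pos a) 0)
  left_inv := by revert i; decide +kernel
  right_inv := by revert i; decide +kernel

theorem words_ok : ∀ a b c : Fin 5, a ≠ b → b ≠ c → a ≠ c → ∀ x : Fin 5 ⊕ Fin 5,
    evalWord tau 40 (words0.getD (25 * a.val + 5 * b.val + c.val) 0) x =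
      Equiv.Perm.sumCongr (Equiv.swap a b * Equiv.swap b c) 1 x ∧
    evalWord tau 40 (words1.getD (25 * a.val + 5 * b.val + c.val) 0) x =
      Equiv.Perm.sumCongr (1 : Equiv.Perm (Fin 5)) (Equiv.swap a b * Equiv.swap b c) x := by
  decide +kernel

theorem swap_ok : ∀ x : Fin 5 ⊕ Fin 5, evalWord tau 40 swapWord x = Equiv.sumComm (Fin 5) (Fin 5) x := by
  decide +kernel

theorem gen_le : alternatingFiveWreathTwo ≤ Subgroup.closure (Set.range tau) := by
  rw [alternatingFiveWreathTwo, Subgroup.closure_le]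
  rintro _ (⟨σ, τ, rfl⟩ | rfl)
  · set H := Subgroup.closure (Set.range tau) with hH
    have h1 : alternatingGroup (Fin 5) ≤ H.comap ((Equiv.Perm.sumCongrHom (Fin 5) (Fin 5)).comp
        (MonoidHom.inl _ _)) := by
      rw [← Equiv.Perm.closure_three_cycles_eq_alternating, Subgroup.closure_le]
      intro f hf
      obtain ⟨a, b, c, hab, hbc, hac, rfl⟩ := threeCycle_eq hf
      show Equiv.Perm.sumCongr (Equiv.swap a b * Equiv.swap b c) 1 ∈ H
      rw [← Equiv.ext fun x => (words_ok a b c hab hbc hac x).1]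
      exact evalWord_mem _ _ _
    have h2 : alternatingGroup (Fin 5) ≤ H.comap ((Equiv.Perm.sumCongrHom (Fin 5) (Fin 5)).comp
        (MonoidHom.inr _ _)) := by
      rw [← Equiv.Perm.closure_three_cycles_eq_alternating, Subgroup.closure_le]
      intro f hf
      obtain ⟨a, b, c, hab, hbc, hac, rfl⟩ := threeCycle_eq hf
      show Equiv.Perm.sumCongr (1 : Equiv.Perm (Fin 5)) (Equiv.swap a b * Equiv.swap b c) ∈ H
      rw [← Equiv.ext fun x => (words_ok a b c hab hbc hac x).2]
      exact evalWord_mem _ _ _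
    have := H.mul_mem (h1 σ.2) (h2 τ.2)
    change Equiv.Perm.sumCongr (σ : Equiv.Perm (Fin 5)) 1 *
      Equiv.Perm.sumCongr (1 : Equiv.Perm (Fin 5)) (τ : Equiv.Perm (Fin 5)) ∈ H at this
    rwa [Equiv.Perm.sumCongr_mul, mul_one, one_mul] at this
  · rw [← show evalWord tau 40 swapWord = Equiv.sumComm (Fin 5) (Fin 5) from Equiv.ext swap_ok]
    exact evalWord_mem _ _ _

/-- the representatives -/
def repF (k : Fin 8 → ZMod 2) : List ℤ := unpackL (repsN.getD (num k) 0)

theorem sigma_pow : sigM ^ 5 = 1 := Subtype.ext (Equiv.ext (show ∀ q, (sig ^ 5) q = q by decide +kernel))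

theorem sigma_ne : sigM ≠ 1 := fun h => by
  have := congrArg (fun s : ↥M24 => (s : Equiv.Perm GolayPt) (Leech.ptOf 1)) h
  revert this
  show sig (Leech.ptOf 1) = Leech.ptOf 1 → False
  decide +kernel

theorem frames_count : (Finset.univ.filter fun k : Fin 8 → ZMod 2 =>
    dotL (repF k) (repF k) = 64).card ≤ 75 := by decide +kernel

theorem fixed_count : ((List.finRange 4096).filter fun (m : Fin 4096) => (List.range 24).all fun q =>
    (Leech.maskOf m).testBit (sigP.getD q 0) == (Leech.maskOf m).testBit q).length ≤ 16 := by decide +kernel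

theorem order_sigma : orderOf sigM = 5 := by
  have := Fact.mk (by norm_num : Nat.Prime 5)
  exact orderOf_eq_prime sigma_pow sigma_ne

theorem sigCode_ok : Compute.rep24.okb sigCode = true := by decide +kernel

theorem sigCode_act : ∀ q, Compute.ptIdx (sig q) = Compute.rep24.act sigCode (Compute.ptIdx q) := by
  decide +kernel

theorem den_sigCode : Compute.rep24.den sigCode = sig :=
  Equiv.ext fun q => Compute.ptIdx_injective (by
    rw [Compute.ptIdx_den (Compute.rep24.okb_sound _ sigCode_ok), sigCode_act])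

theorem first_cycle : ∀ i < 4, sig (Compute.rep24.pt i) = Compute.rep24.pt (i + 1) := by
  intro i hi
  refine Compute.ptIdx_injective ?_
  rw [sigCode_act, Compute.ptIdx_rep24 (by omega), Compute.ptIdx_rep24 (by omega)]
  revert i
  decide +kernel

theorem card_cent : Nat.card ↥(Subgroup.centralizer ({sigM} : Set ↥M24)) ≤ 60 := by
  have k0 := Compute.m24b_check
  have k1 := Compute.Rep.checkChain_tail k0
  have k2 := Compute.Rep.checkChain_tail k1
  have k3 := Compute.Rep.checkChain_tail k2
  have k4 := Compute.Rep.checkChain_tail k3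
  have k5 := Compute.Rep.checkChain_tail k4
  refine card_centralizer_le (σ := sigM) (Compute.rep24.okb_sound _ sigCode_ok) den_sigCode
    [Compute.m24bL5, Compute.m24bL6] k5 ?_ ?_ (A := 20) (B := 3) (by decide +kernel) (by decide +kernel)
  · intro x hx h0 hstep
    have h1 : x (Compute.rep24.pt 1) = Compute.rep24.pt 1 := first_cycle 0 (by norm_num) ▸ hstep _ h0
    have h2 : x (Compute.rep24.pt 2) = Compute.rep24.pt 2 := first_cycle 1 (by norm_num) ▸ hstep _ h1
    have h3 : x (Compute.rep24.pt 3) = Compute.rep24.pt 3 := first_cycle 2 (by norm_num) ▸ hstep _ h2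
    have h4 : x (Compute.rep24.pt 4) = Compute.rep24.pt 4 := first_cycle 3 (by norm_num) ▸ hstep _ h3
    have m0 : x ∈ Compute.rep24.chainGroup Compute.m24bChain := m24_bChain ▸ hx
    have m1 : x ∈ Compute.rep24.chainGroup _ :=
      Compute.Rep.chainGroup_inf_stabilizer k0 (show Compute.m24bL0.base = 0 from rfl) ▸ Subgroup.mem_inf.mpr ⟨m0, h0⟩
    have m2 : x ∈ Compute.rep24.chainGroup _ :=
      Compute.Rep.chainGroup_inf_stabilizer k1 (show Compute.m24bL1.base = 1 from rfl) ▸ Subgroup.mem_inf.mpr ⟨m1, h1⟩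
    have m3 : x ∈ Compute.rep24.chainGroup _ :=
      Compute.Rep.chainGroup_inf_stabilizer k2 (show Compute.m24bL2.base = 2 from rfl) ▸ Subgroup.mem_inf.mpr ⟨m2, h2⟩
    have m4 : x ∈ Compute.rep24.chainGroup _ :=
      Compute.Rep.chainGroup_inf_stabilizer k3 (show Compute.m24bL3.base = 3 from rfl) ▸ Subgroup.mem_inf.mpr ⟨m3, h3⟩
    exact Compute.Rep.chainGroup_inf_stabilizer k4 (show Compute.m24bL4.base = 4 from rfl) ▸
      Subgroup.mem_inf.mpr ⟨m4, h4⟩
  · show sig (Compute.rep24.pt 0) ≠ Compute.rep24.pt 0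
    rw [first_cycle 0 (by norm_num)]
    exact fun h => by
      have := congrArg Compute.ptIdx h
      rw [Compute.ptIdx_rep24 (by norm_num), Compute.ptIdx_rep24 (by norm_num)] at this
      omega

/-- the data -/
noncomputable def data : CentData 5 (2 * 4) (Fin 5 ⊕ Fin 5) alternatingFiveWreathTwo where
  σ := sigM
  P := sigP
  hσ := sigma_pow
  hodd := ⟨2, rfl⟩
  hP := sig_idx
  repL := repF
  avg := avgL
  hrep := by decide +kernel
  hzero := by decide +kernel
  hadd := by decide +kernel
  hfix := by decide +kernel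
  havg := by decide +kernel
  hpart := by decide +kernel
  hp := by norm_num
  hne := sigma_ne
  gen := fun i => if i = 0 then genP else genW
  hcomm := by decide +kernel
  img := fun i => imgL.getD (i : ℕ) []
  himg := by decide +kernel
  obj := fun a => objL.getD (pos a) 0
  hobj := by decide +kernel
  tau := tau
  htau := by decide +kernel
  hgen := gen_le
  hbound := by
    refine le_trans (Nat.mul_le_mul frames_count (Nat.mul_le_mul (card_fixed_le sig_idx fixed_count)
      card_cent)) ?_
    have := card_ge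
    omega

theorem two_conj : twoM * sigM * twoM⁻¹ = sigM ^ 2 := by
  rw [mul_inv_eq_iff_eq_mul]
  exact Subtype.ext (Equiv.ext (show ∀ q, (two * sig) q = (sig ^ 2 * two) q by decide +kernel))

theorem five_part : (Nat.card ↥M24).factorization 5 = 1 := by
  rw [Compute.card_m24, Nat.factorization_def _ (by norm_num : Nat.Prime 5),
    show (244823040 : ℕ) = 5 ^ 1 * 48964608 from by norm_num]
  have := Fact.mk (by norm_num : Nat.Prime 5)
  rw [padicValNat.mul (by norm_num) (by norm_num), padicValNat.prime_pow,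
    padicValNat.eq_zero_of_not_dvd (by norm_num)]

theorem sel (y : ↥M24) (hy : orderOf y = 5) : ∃ n j, n * y * n⁻¹ = sigM ^ j := by
  have := Fact.mk (by norm_num : Nat.Prime 5)
  let A : Sylow 5 ↥M24 := Sylow.ofCard (Subgroup.zpowers y) (by
    rw [Nat.card_zpowers, hy, five_part, pow_one])
  let B : Sylow 5 ↥M24 := Sylow.ofCard (Subgroup.zpowers sigM) (by
    rw [Nat.card_zpowers, order_sigma, five_part, pow_one])
  obtain ⟨u, hu⟩ := MulAction.exists_smul_eq ↥M24 A B
  have hmem : u * y * u⁻¹ ∈ (B : Subgroup ↥M24) := by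
    rw [← hu, Sylow.coe_subgroup_smul]
    exact ⟨y, Subgroup.mem_zpowers y, by simp⟩
  change u * y * u⁻¹ ∈ Subgroup.zpowers sigM at hmem
  rw [← mem_powers_iff_mem_zpowers, Submonoid.mem_powers_iff] at hmem
  obtain ⟨j, hj⟩ := hmem
  exact ⟨u, j, hj.symm⟩

/-- the setting -/
noncomputable def setting : Setting 5 4 ↥alternatingFiveWreathTwo :=
  data.setting True (fun y hy _ => sel y hy)
    (inducing_of_two sigma_pow two_conj (by decide) (by norm_num))

end Cfsg.Agent.CentType.Five
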