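import Mathlib
import Cfsg.Agent.CentType.Tools
import Cfsg.Agent.CentType.ThreeData
import Cfsg.Agent.CentType.CodeTools
import Cfsg.Agent.Compute.Classes

/-! The fixed-point-free element of order three in the code group: its centraliser bound and
its class among the elements not central in a Sylow subgroup. -/

set_option autoImplicit false
set_option maxRecDepth 8000

namespace Cfsg.Agent.CentType.Three
open Cfsg Cfsg.Agent Cfsg.Agent.CentType Cfsg.Agent.Compute
open scoped Pointwise

theorem sigCode_ok : rep24.okb sigCode = true := by decide +kernel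

theorem sigCode_act : ∀ q, ptIdx (sig q) = rep24.act sigCode (ptIdx q) := by decide +kernel

theorem den_sigCode : rep24.den sigCode = sig :=
  Equiv.ext fun q => ptIdx_injective (by rw [ptIdx_den (rep24.okb_sound _ sigCode_ok), sigCode_act])

theorem first_cycle : sig (rep24.pt 0) = rep24.pt 1 ∧ sig (rep24.pt 1) = rep24.pt 2 := by
  have h : ∀ i < 2, ptIdx (sig (rep24.pt i)) = i + 1 := by
    intro i hi
    rw [sigCode_act, ptIdx_rep24 (by omega)]
    revert i
    decide +kernel
  refine ⟨ptIdx_injective ?_, ptIdx_injective ?_⟩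
  · rw [h 0 (by norm_num), ptIdx_rep24 (by norm_num)]
  · rw [h 1 (by norm_num), ptIdx_rep24 (by norm_num)]

theorem stab_list : ((rep24.chainElems [m24bL3, m24bL4, m24bL5, m24bL6]).filter fun c =>
    commCodes c sigCode).length ≤ 21 := by decide +kernel

theorem chain_facts : m24bL0.base = 0 ∧ m24bL1.base = 1 ∧ m24bL2.base = 2 := ⟨rfl, rfl, rfl⟩

theorem card_cent : Nat.card ↥(Subgroup.centralizer ({sigM} : Set ↥M24)) ≤ 504 := by
  have k1 := Rep.checkChain_tail m24b_check
  have k2 := Rep.checkChain_tail k1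
  have k3 := Rep.checkChain_tail k2
  refine card_centralizer_le (σ := sigM) (rep24.okb_sound _ sigCode_ok) den_sigCode
    [m24bL3, m24bL4, m24bL5, m24bL6] k3 ?_ ?_ (A := 24) (B := 21) (by decide +kernel) stab_list
  · intro x hx h0 hstep
    have h1 : x (rep24.pt 1) = rep24.pt 1 := first_cycle.1 ▸ hstep _ h0
    have h2 : x (rep24.pt 2) = rep24.pt 2 := first_cycle.2 ▸ hstep _ h1
    have m0 : x ∈ rep24.chainGroup m24bChain := m24_bChain ▸ hx
    have m1 : x ∈ rep24.chainGroup _ :=
      Rep.chainGroup_inf_stabilizer m24b_check chain_facts.1 ▸ Subgroup.mem_inf.mpr ⟨m0, h0⟩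
    have m2 : x ∈ rep24.chainGroup _ :=
      Rep.chainGroup_inf_stabilizer k1 chain_facts.2.1 ▸ Subgroup.mem_inf.mpr ⟨m1, h1⟩
    exact Rep.chainGroup_inf_stabilizer k2 chain_facts.2.2 ▸ Subgroup.mem_inf.mpr ⟨m2, h2⟩
  · show sig (rep24.pt 0) ≠ rep24.pt 0
    rw [first_cycle.1]
    exact fun h => by
      have := congrArg ptIdx h
      rw [ptIdx_rep24 (by norm_num), ptIdx_rep24 (by norm_num)] at this
      omega

theorem cert_checks : inM24B cenConj = true ∧ inM24B repConj = true ∧ inM24B cenCode = true ∧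
    syl3Reps.all (fun r => rep24.okb r) = true ∧
    rep24.mul cenConj cenCode = rep24.mul (syl3Reps.getD idA rep24.one) cenConj ∧
    rep24.mul repConj (syl3Reps.getD idB rep24.one) = rep24.mul sigCode repConj ∧
    (topGens syl3Chain).all (fun g => commCodes cenCode g) = true ∧
    (rep24.chainElems syl3Chain).any (fun c => commCodes cenCode c &&
      allBelow 24 (fun i => Nat.beq (rep24.act c i) (rep24.act cenCode i))) = true ∧
    rep24.okb cenCode = true ∧ (topGens syl3Chain).all rep24.okb = true := by decide +kernel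

/-- codes in the element list of a chain lie in its group -/
theorem chainElems_mem' {G : Type*} [Group G] [Finite G] {Ω : Type*} [MulAction G Ω]
    (R : Compute.Rep G Ω) : ∀ (K : List Level), R.checkChain K = true → ∀ {c : ℕ}, c ∈ R.chainElems K →
      R.Ok c ∧ R.den c ∈ R.chainGroup K := by
  intro K
  induction K with
  | nil =>
      intro _ c hc
      simp [Rep.chainElems] at hc
      subst hc
      exact ⟨R.ok_one, by rw [R.den_one]; exact one_mem _⟩
  | cons L Ls ih =>
      intro hchk c hc
      obtain ⟨j, -, hc'⟩ := List.mem_flatMap.mp hc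
      obtain ⟨d, hd, rfl⟩ := List.mem_map.mp hc'
      obtain ⟨hok, hmem⟩ := ih (Rep.checkChain_tail hchk) hd
      have h := R.levelOK_of_check (by rw [R.checkChain_cons, Bool.and_eq_true] at hchk; exact hchk.1)
      refine ⟨R.ok_mul _ _ (h.entry_all j).1 hok, ?_⟩
      rw [R.den_mul _ _ (h.entry_all j).1 hok]
      exact mul_mem (h.entry_mem j) (Rep.chainGroup_next_le hchk hmem)

theorem idx_cases : ∀ j < 2, j = idA ∨ j = idB := by decide

/-- every element of order three not central in a Sylow subgroup is conjugate to the permutation -/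
theorem sel (y : ↥M24) (hy : orderOf y = 3) (hnc : ¬ SylCentral 3 y) :
    ∃ n j, n * y * n⁻¹ = sigM ^ j := by
  have := Fact.mk Nat.prime_three
  obtain ⟨hk, hn, hc, hreps, e1, e2, hcomm, hel, hcok, hgok⟩ := cert_checks
  obtain ⟨j, hj, k, hkM, hkj⟩ := exists_conj_three y.2 (by rw [Subgroup.orderOf_coe]; exact hy)
  have hrok : ∀ i, i < 2 → rep24.Ok (syl3Reps.getD i rep24.one) := fun i hi => by
    have hlen : syl3Reps.length = 2 := rfl
    rw [List.getD_eq_getElem _ _ (hlen ▸ hi)]
    exact rep24.okb_sound _ (List.all_eq_true.1 hreps _ (List.getElem_mem _))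
  obtain ⟨hnok, hnM⟩ := mem_M24_of_check hn
  obtain ⟨hkok, hkMem⟩ := mem_M24_of_check hk
  obtain ⟨hcok', hcM⟩ := mem_M24_of_check hc
  rcases idx_cases j hj with rfl | rfl
  · exfalso
    refine hnc ?_
    -- the checked Sylow subgroup centralises the central element
    obtain ⟨hchk, hgens, hsize⟩ := syl_checks.2
    set P := rep24.chainGroup syl3Chain with hP
    have hle : P ≤ M24 := by
      rw [hP, Rep.chainGroup, Rep.span, Subgroup.closure_le]
      rintro _ ⟨t, ht, rfl⟩
      exact (mem_M24_of_check (List.all_eq_true.mp hgens t ht)).2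
    have hcard : Nat.card ↥(P.subgroupOf M24) = 3 ^ 3 := by
      rw [Nat.card_congr (Subgroup.subgroupOfEquivOfLe hle).toEquiv, hP, Rep.card_chainGroup _ hchk, hsize]
    have hf : (Nat.card ↥M24).factorization 3 = 3 := by
      rw [Compute.card_m24, Nat.factorization_def _ Nat.prime_three,
        show (244823040 : ℕ) = 3 ^ 3 * 9067520 from by norm_num]
      rw [padicValNat.mul (by norm_num) (by norm_num), padicValNat.prime_pow,
        padicValNat.eq_zero_of_not_dvd (by norm_num)]
    let S : Sylow 3 ↥M24 := Sylow.ofCard (P.subgroupOf M24) (by rw [hcard, hf])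
    have hcP : rep24.den cenCode ∈ P := by
      obtain ⟨c, hcm, h⟩ := List.any_eq_true.1 hel
      rw [Bool.and_eq_true] at h
      obtain ⟨hok, hmem⟩ := chainElems_mem' rep24 _ hchk hcm
      have : rep24.den c = rep24.den cenCode := Equiv.ext fun p => ptIdx_injective (by
        rw [ptIdx_den hok, ptIdx_den hcok']
        exact Nat.eq_of_beq_eq_true (allBelow_eq_true.1 h.2 _ (ptIdx_lt p)))
      rw [← this]
      exact hmem
    have hcent : ∀ t ∈ P, rep24.den cenCode * t = t * rep24.den cenCode := by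
      have : P ≤ Subgroup.centralizer ({rep24.den cenCode} : Set (Equiv.Perm GolayPt)) := by
        rw [hP, Rep.chainGroup, Rep.span, Subgroup.closure_le]
        rintro _ ⟨t, ht, rfl⟩
        exact Subgroup.mem_centralizer_singleton_iff.2 ((commCodes_iff hcok'
          (rep24.okb_sound _ (List.all_eq_true.mp hgok t ht))).1 (List.all_eq_true.mp hcomm t ht)).eq.symm
      intro t ht
      exact (Subgroup.mem_centralizer_singleton_iff.1 (this ht)).symm
    have hz : SylCentral 3 (⟨_, hcM⟩ : ↥M24) :=
      ⟨S, hcP, fun t ht => Subtype.ext (hcent _ ht)⟩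
    have hconj : (⟨k, hkM⟩ : ↥M24)⁻¹ * (⟨_, hkMem⟩ * ⟨_, hcM⟩ * (⟨_, hkMem⟩ : ↥M24)⁻¹) * ⟨k, hkM⟩ = y := by
      refine Subtype.ext ?_
      have e1' := congrArg rep24.den e1
      rw [rep24.den_mul _ _ hkok hcok', rep24.den_mul _ _ (hrok _ (by decide)) hkok] at e1'
      show k⁻¹ * (rep24.den cenConj * rep24.den cenCode * (rep24.den cenConj)⁻¹) * k = (y : Equiv.Perm GolayPt)
      rw [e1', mul_inv_cancel_right, ← hkj]
      group
    rw [← hconj]
    have h1 := (sylCentral_conj (⟨_, hkMem⟩ : ↥M24) ⟨_, hcM⟩).2 hz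
    have h2 := (sylCentral_conj (⟨k, hkM⟩ : ↥M24)⁻¹ _).2 h1
    rwa [inv_inv] at h2
  · refine ⟨⟨_, hnM⟩ * ⟨k, hkM⟩, 1, ?_⟩
    rw [pow_one]
    refine Subtype.ext ?_
    have e2' := congrArg rep24.den e2
    rw [rep24.den_mul _ _ hnok (hrok _ (by decide)), rep24.den_mul _ _ (rep24.okb_sound _ sigCode_ok) hnok,
      den_sigCode] at e2'
    show rep24.den repConj * k * (y : Equiv.Perm GolayPt) * (rep24.den repConj * k)⁻¹ = sig
    calc rep24.den repConj * k * (y : Equiv.Perm GolayPt) * (rep24.den repConj * k)⁻¹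
        = rep24.den repConj * (k * (y : Equiv.Perm GolayPt) * k⁻¹) * (rep24.den repConj)⁻¹ := by group
      _ = sig := by rw [hkj, e2', mul_inv_cancel_right]

end Cfsg.Agent.CentType.Three
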