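import Mathlib
import Cfsg.Agent.CentType.Tools
import Cfsg.Agent.CentType.ThreeCent

/-! The fixed-point-free element of order three: its centraliser modulo itself is alternating. -/

set_option autoImplicit false
set_option maxRecDepth 8000

namespace Cfsg.Agent.CentType.Three
open Cfsg Cfsg.Agent Cfsg.Agent.CentType MonsterType

/-- the permutations of the family -/
def tau (i : Fin 2) : Equiv.Perm (Fin 9) where
  toFun a := Fin.ofNat 9 ((tauL.getD (i : ℕ) []).getD a.val 0)
  invFun a := Fin.ofNat 9 ((tauI.getD (i : ℕ) []).getD a.val 0)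
  left_inv := by revert i; decide +kernel
  right_inv := by revert i; decide +kernel

theorem words_ok : ∀ a b c : Fin 9, a ≠ b → b ≠ c → a ≠ c → ∀ x : Fin 9,
    evalWord tau 40 (words0.getD (81 * a.val + 9 * b.val + c.val) 0) x =
      (Equiv.swap a b * Equiv.swap b c) x := by
  decide +kernel

theorem gen_le : alternatingGroup (Fin 9) ≤ Subgroup.closure (Set.range tau) := by
  rw [← Equiv.Perm.closure_three_cycles_eq_alternating, Subgroup.closure_le]
  intro f hf
  obtain ⟨a, b, c, hab, hbc, hac, rfl⟩ := threeCycle_eq hf
  rw [← Equiv.ext fun x => words_ok a b c hab hbc hac x]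
  exact evalWord_mem _ _ _

theorem card_alt : Nat.card ↥(alternatingGroup (Fin 9)) = 181440 := by
  have := two_mul_nat_card_alternatingGroup (α := Fin 9)
  rw [Nat.card_perm, Nat.card_fin] at this
  norm_num [Nat.factorial] at this ⊢
  omega

/-- the representatives -/
def repF (k : Fin 8 → ZMod 2) : List ℤ := unpackL (repsN.getD (num k) 0)

theorem sigma_pow : sigM ^ 3 = 1 := Subtype.ext (Equiv.ext (show ∀ q, (sig ^ 3) q = q by decide +kernel))

theorem sigma_ne : sigM ≠ 1 := fun h => by
  have := congrArg (fun s : ↥M24 => (s : Equiv.Perm GolayPt) (Leech.ptOf 1)) h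
  revert this
  show sig (Leech.ptOf 1) = Leech.ptOf 1 → False
  decide +kernel

theorem frames_count : (Finset.univ.filter fun k : Fin 8 → ZMod 2 =>
    dotL (repF k) (repF k) = 64).card ≤ 135 := by decide +kernel

theorem fixed_count : ((List.finRange 4096).filter fun (m : Fin 4096) => (List.range 24).all fun q =>
    (Leech.maskOf m).testBit (sigP.getD q 0) == (Leech.maskOf m).testBit q).length ≤ 16 := by decide +kernel

/-- the data -/
noncomputable def data : CentData 3 (2 * 4) (Fin 9) (alternatingGroup (Fin 9)) where
  σ := sigM
  P := sigP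
  hσ := sigma_pow
  hodd := ⟨1, rfl⟩
  hP := sig_idx
  repL := repF
  avg := avgL
  hrep := by decide +kernel
  hzero := by decide +kernel
  hadd := by decide +kernel
  hfix := by decide +kernel
  havg := by decide +kernel
  hpart := by decide +kernel
  hp := by norm_num
  hne := sigma_ne
  gen := fun i => if i = 0 then genP else genW
  hcomm := by decide +kernel
  img := fun i => imgL.getD (i : ℕ) []
  himg := by decide +kernel
  obj := fun a => objL.getD a.val 0
  hobj := by decide +kernel
  tau := tau
  htau := by decide +kernel
  hgen := gen_le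
  hbound := by
    refine le_trans (Nat.mul_le_mul frames_count (Nat.mul_le_mul (card_fixed_le sig_idx fixed_count)
      card_cent)) ?_
    rw [card_alt]

theorem two_conj : twoM * sigM * twoM⁻¹ = sigM ^ 2 := by
  rw [mul_inv_eq_iff_eq_mul]
  exact Subtype.ext (Equiv.ext (show ∀ q, (two * sig) q = (sig ^ 2 * two) q by decide +kernel))

/-- the setting -/
noncomputable def setting : Setting 3 4 ↥(alternatingGroup (Fin 9)) :=
  data.setting False (fun y hy h => sel y hy h.1)
    (inducing_of_two sigma_pow two_conj (by decide) (by norm_num))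

theorem nil_bot : ∀ N : Subgroup ↥(alternatingGroup (Fin 9)), N.Normal → Group.IsNilpotent ↥N → N = ⊥ := by
  have : IsSimpleGroup ↥(alternatingGroup (Fin 9)) := alternatingGroup.isSimpleGroup (by simp)
  refine nil_bot_of_simple fun h => ?_
  have hne := Group.IsNilpotent.center_ne_bot ↥(alternatingGroup (Fin 9))
  rw [alternatingGroup.center_eq_bot (by simp)] at hne
  exact hne rfl

end Cfsg.Agent.CentType.Three
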